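import Cfsg.Agent.Lib.PGroup.SelfCentEight.Basic
import Cfsg.Agent.Lib.Invol.CharTwo

/-!
# A normal elementary subgroup against a self-centralising elementary subgroup of order eight
-/

set_option autoImplicit false
set_option linter.unusedSectionVars false
set_option linter.style.haveILetI false

open Subgroup

namespace CfsgLib.PGroup.SelfCentEight

open CfsgLib.PGroup.FourGen

variable {G : Type*} [Group G]

/-- The commutator `g x g⁻¹ x⁻¹`. -/
def cm (g x : G) : G := g * x * g⁻¹ * x⁻¹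

theorem conj_eq_cm (g x : G) : g * x * g⁻¹ = cm g x * x := by simp [cm]

theorem cm_eq_one_iff {g x : G} : cm g x = 1 ↔ g * x = x * g := by
  rw [cm, mul_inv_eq_one, mul_inv_eq_iff_eq_mul]

theorem cm_mul_right {g x y : G} (h : Commute x (cm g y)) :
    cm g (x * y) = cm g x * cm g y := by
  have h1 : cm g (x * y) = cm g x * (x * cm g y * x⁻¹) := by unfold cm; group
  rw [h1, h.eq, mul_inv_cancel_right]

theorem cm_mem {N : Subgroup G} [N.Normal] (g : G) {x : G} (hx : x ∈ N) : cm g x ∈ N :=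
  mul_mem (Subgroup.Normal.conj_mem inferInstance x hx g) (inv_mem hx)

theorem inv_eq_self {a : G} (h : a ^ 2 = 1) : a⁻¹ = a :=
  inv_eq_of_mul_eq_one_right (by rw [← pow_two]; exact h)

theorem exists_central_mod [Finite G] (hG : IsPGroup 2 G) {E X : Subgroup G} [E.Normal] [X.Normal]
    (h : ¬ X ≤ E) : ∃ x ∈ X, x ∉ E ∧ x ^ 2 ∈ E ∧ ∀ g : G, cm g x ∈ E := by
  haveI : Fact (Nat.Prime 2) := ⟨Nat.prime_two⟩
  haveI : (X.map (QuotientGroup.mk' E)).Normal :=
    Subgroup.Normal.map inferInstance _ (QuotientGroup.mk'_surjective E)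
  obtain ⟨t, ht, ho, hc⟩ := Invol.exists_fixed_of_normalized (p := 2) (P := (⊤ : Subgroup (G ⧸ E)))
    ((hG.to_quotient E).to_subgroup ⊤) ((hG.to_quotient E).to_subgroup (X.map (QuotientGroup.mk' E)))
    (by rw [Ne, Subgroup.map_eq_bot_iff, QuotientGroup.ker_mk']; exact h)
    (le_of_le_of_eq le_top (Subgroup.normalizer_eq_top_iff.2 inferInstance).symm)
  obtain ⟨x, hx, rfl⟩ := ht
  refine ⟨x, hx, fun hxE => ?_, ?_, fun g => ?_⟩
  · rw [show QuotientGroup.mk' E x = 1 from (QuotientGroup.eq_one_iff _).2 hxE, orderOf_one] at ho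
    exact absurd ho (by norm_num)
  · refine (QuotientGroup.eq_one_iff _).1 ?_
    show QuotientGroup.mk' E (x ^ 2) = 1
    rw [map_pow]
    exact ho ▸ pow_orderOf_eq_one _
  · have h1 := mem_centralizer_singleton_iff.1 (hc (mem_top (QuotientGroup.mk' E g)))
    refine (QuotientGroup.eq_one_iff _).1 ?_
    show QuotientGroup.mk' E (g * x * g⁻¹ * x⁻¹) = 1
    rw [map_mul, map_mul, map_mul, map_inv, map_inv, h1]
    group

/-- A normal subgroup of exponent two not containing `A`. -/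
structure Mod (A E : Subgroup G) : Prop where
  eight : Eight A
  normal : E.Normal
  exp : ∀ e ∈ E, e ^ 2 = 1
  card : 8 ≤ Nat.card E
  ne : E ≠ A

namespace Mod

variable {A E : Subgroup G} (h : Mod A E)
include h

theorem e_comm {e e' : G} (he : e ∈ E) (he' : e' ∈ E) : Commute e e' := sq_comm h.exp he he'

theorem mem_I {f : G} (hf : f ∈ E) (hc : ∀ a ∈ A, Commute a f) : f ∈ A ⊓ E :=
  ⟨h.eight.mem_of_comm hc, hf⟩

theorem comm_cm {a b : G} (ha : a ∈ A) (hb : b ∈ A) (x : G) (hx : b * x = x * b) :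
    b * cm a x * b⁻¹ = cm a x := by
  have hab := (h.eight.comm ha hb).eq
  have h1 : b * x * b⁻¹ = x := mul_inv_eq_iff_eq_mul.2 hx
  have h2 : b * a * b⁻¹ = a := mul_inv_eq_iff_eq_mul.2 hab.symm
  calc b * cm a x * b⁻¹
      = b * a * b⁻¹ * (b * x * b⁻¹) * (b * a * b⁻¹)⁻¹ * (b * x * b⁻¹)⁻¹ := by unfold cm; group
    _ = cm a x := by rw [h1, h2]; rfl

theorem cm_hom (g : G) {e e' : G} (he : e ∈ E) (he' : e' ∈ E) :
    cm g (e * e') = cm g e * cm g e' := by
  haveI := h.normal
  exact cm_mul_right (h.e_comm he (cm_mem g he'))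

theorem cm_fix {a e : G} (ha : a ∈ A) (he : e ∈ E) : a * cm a e = cm a e * a := by
  haveI := h.normal
  have ha2 := inv_eq_self (h.eight.exp a ha)
  have he2 := inv_eq_self (h.exp e he)
  have hc := h.e_comm (Subgroup.Normal.conj_mem inferInstance e he a) he
  rw [← mul_inv_eq_iff_eq_mul]
  calc a * cm a e * a⁻¹ = a * a * e * (a * a)⁻¹ * (a * e⁻¹ * a⁻¹) := by unfold cm; group
    _ = e * (a * e * a⁻¹) := by
      rw [show a * a = 1 by rw [← pow_two]; exact h.eight.exp a ha, he2]; group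
    _ = cm a e := by rw [← hc.eq]; unfold cm; rw [he2]

/-- The fixed points of `a` in `E`. -/
def fix (_h : Mod A E) (a : G) : Subgroup G := E ⊓ centralizer ({a} : Set G)

theorem mem_fix {a e : G} : e ∈ h.fix a ↔ e ∈ E ∧ e * a = a * e :=
  mem_inf.trans (and_congr_right fun _ => mem_centralizer_singleton_iff)

theorem sq_le_fix [Finite G] {D : Subgroup G} (hD : D ≤ E) {a : G} (ha : a ∈ A)
    (hinv : ∀ d ∈ D, a * d * a⁻¹ ∈ D) :
    Nat.card D ≤ Nat.card (D ⊓ centralizer ({a} : Set G) : Subgroup G) ^ 2 := by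
  let f : D →* G := MonoidHom.mk' (fun d => cm a d) fun d e => by
    rw [Subgroup.coe_mul]; exact h.cm_hom a (hD d.2) (hD e.2)
  have h1 : f.range ≤ D ⊓ centralizer ({a} : Set G) := by
    rintro _ ⟨d, rfl⟩
    exact mem_inf.2 ⟨D.mul_mem (hinv d d.2) (D.inv_mem d.2),
      mem_centralizer_singleton_iff.2 (h.cm_fix ha (hD d.2)).symm⟩
  have h2 : Nat.card f.ker ≤ Nat.card (D ⊓ centralizer ({a} : Set G) : Subgroup G) :=
    Nat.card_le_card_of_injective (fun d => (⟨d.1.1, mem_inf.2 ⟨d.1.2,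
      mem_centralizer_singleton_iff.2 (cm_eq_one_iff.1 (MonoidHom.mem_ker.1 d.2)).symm⟩⟩ :
        (D ⊓ centralizer ({a} : Set G) : Subgroup G)))
      fun d e he => Subtype.ext (Subtype.ext (congrArg Subtype.val he :))
  rw [← f.ker.card_mul_index, index_ker, pow_two]
  exact Nat.mul_le_mul h2 (card_le_of_le h1)

theorem exists_central [Finite G] : ∃ z ∈ A ⊓ E, z ≠ 1 ∧ ∀ g : G, g * z = z * g := by
  haveI : Fact (Nat.Prime 2) := ⟨Nat.prime_two⟩
  haveI := h.normal
  obtain ⟨z, hz, ho, hc⟩ := Invol.exists_fixed_of_normalized (p := 2) (P := (⊤ : Subgroup G))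
    (h.eight.two.to_subgroup ⊤) (h.eight.two.to_subgroup E)
    (fun e => by have := h.card; rw [e, card_bot] at this; omega)
    (le_of_le_of_eq le_top (Subgroup.normalizer_eq_top_iff.2 inferInstance).symm)
  have hg : ∀ g : G, g * z = z * g := fun g => mem_centralizer_singleton_iff.1 (hc (mem_top g))
  exact ⟨z, h.mem_I hz fun a _ => hg a, fun e => by rw [e, orderOf_one] at ho; norm_num at ho, hg⟩

theorem card_I [Finite G] : Nat.card (A ⊓ E : Subgroup G) = 2 ∨ Nat.card (A ⊓ E : Subgroup G) = 4 := by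
  obtain ⟨z, hz, hz1, -⟩ := h.exists_central
  have hd : Nat.card (A ⊓ E : Subgroup G) ∣ 2 ^ 3 :=
    (show (8 : ℕ) = 2 ^ 3 by rfl) ▸ h.eight.card ▸ card_dvd_of_le inf_le_left
  obtain ⟨k, hk3, hk⟩ := (Nat.dvd_prime_pow Nat.prime_two).1 hd
  have h1 : 1 < Nat.card (A ⊓ E : Subgroup G) := Finite.one_lt_card_iff_nontrivial.2
    ⟨⟨⟨z, hz⟩, 1, fun e => hz1 (congrArg Subtype.val e)⟩⟩
  have h8 : Nat.card (A ⊓ E : Subgroup G) ≠ 8 := fun e => by
    have hAE : A ≤ E :=
      (eq_of_le_of_card_ge inf_le_left (h.eight.card.le.trans e.ge) : A ⊓ E = A) ▸ inf_le_right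
    exact h.ne (le_antisymm (fun x hx => h.eight.mem_of_comm fun a ha => h.e_comm (hAE ha) hx) hAE)
  rw [hk] at h1 h8 ⊢
  interval_cases k <;> simp_all

theorem eq_of_five [Finite G] {K : Subgroup G} (hK : K ≤ A) {z a b : G} (hz : z ∈ K) (ha : a ∈ K)
    (hb : b ∈ K) (hz1 : z ≠ 1) (haz : a ≠ 1 ∧ a ≠ z) (hb' : b ≠ 1 ∧ b ≠ z ∧ b ≠ a ∧ b ≠ z * a) :
    K = A := by
  classical
  refine eq_of_le_of_card_ge hK ?_
  have hd : Nat.card K ∣ 2 ^ 3 := (show (8 : ℕ) = 2 ^ 3 by rfl) ▸ h.eight.card ▸ card_dvd_of_le hK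
  obtain ⟨k, hk3, hk⟩ := (Nat.dvd_prime_pow Nat.prime_two).1 hd
  have hza1 : z * a ≠ 1 := fun e => haz.2 (by
    rw [eq_inv_of_mul_eq_one_right e, inv_eq_self (h.eight.exp z (hK hz))])
  haveI := Fintype.ofFinite K
  have h5 : ({1, z, a, z * a, b} : Finset G).card ≤
      (Finset.univ.map (Function.Embedding.subtype fun y => y ∈ K)).card := by
    refine Finset.card_le_card fun y hy => ?_
    simp only [Finset.mem_insert, Finset.mem_singleton] at hy
    simp only [Finset.mem_map, Finset.mem_univ, true_and, Function.Embedding.coe_subtype]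
    rcases hy with rfl | rfl | rfl | rfl | rfl
    exacts [⟨1, rfl⟩, ⟨⟨_, hz⟩, rfl⟩, ⟨⟨_, ha⟩, rfl⟩, ⟨⟨_, mul_mem hz ha⟩, rfl⟩, ⟨⟨_, hb⟩, rfl⟩]
  rw [Finset.card_map, Finset.card_univ, ← Nat.card_eq_fintype_card,
    Finset.card_insert_of_notMem, Finset.card_insert_of_notMem,
    Finset.card_insert_of_notMem, Finset.card_pair (Ne.symm hb'.2.2.2)] at h5
  · rw [h.eight.card, hk] at *
    interval_cases k <;> simp_all
  all_goals simp [Ne.symm hz1, Ne.symm haz.1, Ne.symm haz.2, Ne.symm hza1, Ne.symm hb'.1,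
    Ne.symm hb'.2.1, Ne.symm hb'.2.2.1, hz1, haz.1]

/-- The centraliser of `E`. -/
theorem mem_I_of_mem_X [Finite G] {a : G} (ha : a ∈ A) (hX : a ∈ centralizer (E : Set G)) :
    a ∈ E := by
  by_contra haE
  obtain ⟨z, hz, hz1, hzc⟩ := h.exists_central
  haveI := h.normal
  rcases h.card_I with hI | hI
  · -- `A ∩ E` has order two
    obtain ⟨b, hb, hb'⟩ : ∃ b ∈ A, b ≠ 1 ∧ b ≠ z ∧ b ≠ a ∧ b ≠ z * a := by
      classical
      by_contra hno
      push Not at hno
      haveI := Fintype.ofFinite A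
      have h4 : (Finset.univ.map (Function.Embedding.subtype fun y => y ∈ A)).card ≤
          ({1, z, a, z * a} : Finset G).card := by
        refine Finset.card_le_card fun y hy => ?_
        simp only [Finset.mem_map, Finset.mem_univ, true_and, Function.Embedding.coe_subtype] at hy
        obtain ⟨⟨x, hx⟩, rfl⟩ := hy
        simp only [Finset.mem_insert, Finset.mem_singleton]
        by_contra hc
        push Not at hc
        exact hc.2.2.2 (hno x hx hc.1 hc.2.1 hc.2.2.1)
      rw [Finset.card_map, Finset.card_univ, ← Nat.card_eq_fintype_card, h.eight.card] at h4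
      have := h4.trans Finset.card_le_four
      omega
    have hle : h.fix b ≤ A ⊓ E := fun f hf => by
      obtain ⟨hfE, hfb⟩ := h.mem_fix.1 hf
      refine h.mem_I hfE fun c hc => ?_
      have hK : A ⊓ centralizer ({f} : Set G) = A := by
        refine h.eq_of_five inf_le_left (z := z) (a := a) (b := b) ?_ ?_ ?_ hz1
          ⟨fun e => haE (e ▸ one_mem E), fun e => haE (e ▸ hz.2)⟩ hb'
        · exact mem_inf.2 ⟨hz.1, mem_centralizer_singleton_iff.2 (hzc f).symm⟩
        · exact mem_inf.2 ⟨ha, mem_centralizer_singleton_iff.2 (mem_centralizer_iff.1 hX f hfE).symm⟩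
        · exact mem_inf.2 ⟨hb, mem_centralizer_singleton_iff.2 hfb.symm⟩
      exact mem_centralizer_singleton_iff.1 ((hK.ge hc).2)
    have h2 := h.sq_le_fix le_rfl hb (fun d hd => Subgroup.Normal.conj_mem inferInstance d hd b)
    have h3 : Nat.card (E ⊓ centralizer ({b} : Set G) : Subgroup G) ≤ 2 := hI ▸ card_le_of_le hle
    have := h.card
    have := Nat.pow_le_pow_left h3 2
    omega
  · -- `A = (A ∩ E) ⟨a⟩`, so `A` centralises `E`
    have hEA : E ≤ A := fun f hf => by
      refine h.eight.mem_of_comm fun c hc => ?_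
      have hK : A ⊓ centralizer ({f} : Set G) = A := by
        refine eq_of_le_of_card_ge inf_le_left ?_
        have h1 : A ⊓ E < A ⊓ centralizer ({f} : Set G) := by
          refine lt_of_le_of_ne (fun x hx => mem_inf.2 ⟨hx.1,
            mem_centralizer_singleton_iff.2 (h.e_comm hx.2 hf).eq⟩) fun e => haE ?_
          exact (e.ge (mem_inf.2 ⟨ha,
            mem_centralizer_singleton_iff.2 (mem_centralizer_iff.1 hX f hf).symm⟩)).2
        have h2 := card_dvd_of_le h1.le
        have h3 : Nat.card (A ⊓ E : Subgroup G) ≠ Nat.card (A ⊓ centralizer ({f} : Set G) : Subgroup G) :=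
          fun e => h1.ne (eq_of_le_of_card_ge h1.le e.ge)
        obtain ⟨m, hm⟩ := h2
        have h4 : 0 < Nat.card (A ⊓ centralizer ({f} : Set G) : Subgroup G) := Nat.card_pos
        rw [hI] at hm h3
        rw [h.eight.card, hm]
        rcases m with _ | _ | m <;> omega
      exact mem_centralizer_singleton_iff.1 ((hK.ge hc).2)
    have h9 := card_le_of_le hEA
    rw [h.eight.card] at h9
    exact h.ne (eq_of_le_of_card_ge hEA (by rw [h.eight.card]; exact h.card))

theorem fix_eq_of_four [Finite G] (hI : Nat.card (A ⊓ E : Subgroup G) = 4) {a : G} (ha : a ∈ A)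
    (haE : a ∉ E) : h.fix a = A ⊓ E := by
  refine le_antisymm (fun f hf => ?_) fun f hf => h.mem_fix.2 ⟨hf.2, (h.eight.comm hf.1 ha).eq⟩
  obtain ⟨hfE, hfa⟩ := h.mem_fix.1 hf
  refine h.mem_I hfE fun c hc => ?_
  have h1 : A ⊓ E < A ⊓ centralizer ({f} : Set G) := by
    refine lt_of_le_of_ne (fun x hx => mem_inf.2 ⟨hx.1,
      mem_centralizer_singleton_iff.2 (h.e_comm hx.2 hfE).eq⟩) fun e => haE ?_
    exact (e.ge (mem_inf.2 ⟨ha, mem_centralizer_singleton_iff.2 hfa.symm⟩)).2
  have hK : A ⊓ centralizer ({f} : Set G) = A := by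
    refine eq_of_le_of_card_ge inf_le_left ?_
    have h2 := card_dvd_of_le h1.le
    have h3 : Nat.card (A ⊓ E : Subgroup G) ≠ Nat.card (A ⊓ centralizer ({f} : Set G) : Subgroup G) :=
      fun e => h1.ne (eq_of_le_of_card_ge h1.le e.ge)
    obtain ⟨m, hm⟩ := h2
    have h4 : 0 < Nat.card (A ⊓ centralizer ({f} : Set G) : Subgroup G) := Nat.card_pos
    rw [hI] at hm h3
    rw [h.eight.card, hm]
    rcases m with _ | _ | m <;> omega
  exact mem_centralizer_singleton_iff.1 ((hK.ge hc).2)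

theorem mem_of_two [Finite G] {a b : G} (ha : a ∈ A)
    (hb : b ∈ A) (haE : a ∉ E) (hbE : b ∉ E) (habE : a * b ∉ E) {f : G} (hfa : f * a = a * f)
    (hfb : f * b = b * f) (hfI : ∀ i ∈ A ⊓ E, f * i = i * f) : f ∈ A := by
  obtain ⟨z, hz, hz1, hzc⟩ := h.exists_central
  refine h.eight.mem_of_comm fun c hc => ?_
  have hK : A ⊓ centralizer ({f} : Set G) = A := by
    refine h.eq_of_five inf_le_left (z := z) (a := a) (b := b)
      (mem_inf.2 ⟨hz.1, mem_centralizer_singleton_iff.2 (hfI z hz).symm⟩)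
      (mem_inf.2 ⟨ha, mem_centralizer_singleton_iff.2 hfa.symm⟩)
      (mem_inf.2 ⟨hb, mem_centralizer_singleton_iff.2 hfb.symm⟩) hz1
      ⟨fun e => haE (e ▸ one_mem E), fun e => haE (e ▸ hz.2)⟩
      ⟨fun e => hbE (e ▸ one_mem E), fun e => hbE (e ▸ hz.2), fun e => habE ?_, fun e => habE ?_⟩
    · rw [e, ← pow_two, h.eight.exp a ha]; exact one_mem E
    · rw [e, ← mul_assoc, (h.eight.comm ha hz.1).eq, mul_assoc, ← pow_two, h.eight.exp a ha, mul_one]
      exact hz.2
  exact mem_centralizer_singleton_iff.1 ((hK.ge hc).2)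

theorem exists_pair [Finite G] (hI : Nat.card (A ⊓ E : Subgroup G) = 2) {a : G} (ha : a ∈ A) :
    ∃ b ∈ A, b ∉ E ∧ a * b ∉ E := by
  by_contra hno
  push Not at hno
  classical
  let F : Bool × (A ⊓ E : Subgroup G) → A := fun p =>
    ⟨(if p.1 then a⁻¹ else 1) * (p.2 : G), A.mul_mem (by split_ifs; exacts [A.inv_mem ha, A.one_mem]) p.2.2.1⟩
  have hF : Function.Surjective F := fun x => by
    by_cases hx : (x : G) ∈ E
    · exact ⟨(false, ⟨x, x.2, hx⟩), Subtype.ext (by simp [F])⟩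
    · exact ⟨(true, ⟨a * x, A.mul_mem ha x.2, hno x x.2 hx⟩), Subtype.ext (by simp [F])⟩
  have h1 := Nat.card_le_card_of_surjective F hF
  rw [Nat.card_prod, Nat.card_eq_fintype_card (α := Bool), Fintype.card_bool, hI, h.eight.card] at h1
  omega

theorem exists_outside [Finite G] : ∃ a ∈ A, a ∉ E := by
  by_contra hno
  push Not at hno
  have h1 : Nat.card (A ⊓ E : Subgroup G) = 8 := by rw [inf_eq_left.2 hno, h.eight.card]
  rcases h.card_I with e | e <;> omega

theorem card_fix_eq [Finite G] {a : G} (ha : a ∈ A) (haE : a ∉ E) (h16 : Nat.card E ≤ 16) :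
    Nat.card (h.fix a) = 4 := by
  haveI : Fact (Nat.Prime 2) := ⟨Nat.prime_two⟩
  haveI := h.normal
  rcases h.card_I with hI | hI
  · obtain ⟨b, hb, hbE, habE⟩ := h.exists_pair hI ha
    have h1 := h.sq_le_fix le_rfl ha (fun d hd => Subgroup.Normal.conj_mem inferInstance d hd a)
    have h2 : Nat.card (h.fix a) ≤ Nat.card (A ⊓ E : Subgroup G) ^ 2 := by
      refine (h.sq_le_fix (D := h.fix a) inf_le_left hb fun d hd => ?_).trans
        (Nat.pow_le_pow_left (card_le_of_le ?_) 2)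
      · obtain ⟨hdE, hda⟩ := h.mem_fix.1 hd
        refine h.mem_fix.2 ⟨Subgroup.Normal.conj_mem inferInstance d hdE b, ?_⟩
        calc b * d * b⁻¹ * a = b * d * (b⁻¹ * a) := by group
          _ = b * d * (a * b⁻¹) := by rw [((h.eight.comm ha hb).inv_right).eq]
          _ = b * (d * a) * b⁻¹ := by group
          _ = b * (a * d) * b⁻¹ := by rw [hda]
          _ = (b * a) * d * b⁻¹ := by group
          _ = (a * b) * d * b⁻¹ := by rw [(h.eight.comm ha hb).eq]
          _ = a * (b * d * b⁻¹) := by group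
      · intro f hf
        obtain ⟨hf1, hf2⟩ := mem_inf.1 hf
        obtain ⟨hfE, hfa⟩ := h.mem_fix.1 hf1
        exact ⟨h.mem_of_two ha hb haE hbE habE hfa (mem_centralizer_singleton_iff.1 hf2)
          fun i hi => (h.e_comm hfE hi.2).eq, hfE⟩
    rw [hI] at h2
    have h1' : Nat.card E ≤ Nat.card (h.fix a) ^ 2 := h1
    obtain ⟨k, hk⟩ := IsPGroup.iff_card.1 (h.eight.two.to_subgroup (h.fix a))
    have h8 := h.card
    rw [hk] at h1' h2 ⊢
    have hk2 : k ≤ 2 := (Nat.pow_le_pow_iff_right (by norm_num : 1 < 2)).1 (by simpa using h2)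
    interval_cases k <;> simp_all <;> omega
  · rw [h.fix_eq_of_four hI ha haE, hI]

end Mod

end CfsgLib.PGroup.SelfCentEight
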