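import Cfsg.Agent.Lib.PGroup.FourGen.Main
import Cfsg.Agent.Lib.Invol.Taussky

/-!
# Tools for groups with a self-centralising elementary subgroup of order eight
-/

set_option autoImplicit false
set_option linter.unusedSectionVars false
set_option linter.style.haveILetI false

open Subgroup
open scoped commutatorElement

namespace CfsgLib.PGroup.SelfCentEight

open CfsgLib.PGroup.FourGen

variable {G : Type*} [Group G]

/-- `A` is elementary of order eight and self-centralising. -/
structure Eight (A : Subgroup G) : Prop where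
  two : IsPGroup 2 G
  exp : ∀ a ∈ A, a ^ 2 = 1
  card : Nat.card A = 8
  cent : centralizer (A : Set G) = A

theorem Eight.comm {A : Subgroup G} (h : Eight A) {a b : G} (ha : a ∈ A) (hb : b ∈ A) :
    Commute a b := by
  have h1 : b ∈ centralizer (A : Set G) := by rw [h.cent]; exact hb
  exact mem_centralizer_iff.1 h1 a ha

theorem Eight.mem_of_comm {A : Subgroup G} (h : Eight A) {x : G}
    (hx : ∀ a ∈ A, Commute a x) : x ∈ A := by
  rw [← h.cent]
  exact mem_centralizer_iff.2 fun a ha => hx a ha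

theorem sq_comm {E : Subgroup G} (h : ∀ e ∈ E, e ^ 2 = 1) {a b : G} (ha : a ∈ E) (hb : b ∈ E) :
    Commute a b := by
  have hi : ∀ c ∈ E, c⁻¹ = c := fun c hc => inv_eq_of_mul_eq_one_right (by rw [← pow_two]; exact h c hc)
  show a * b = b * a
  rw [← hi _ (mul_mem ha hb), mul_inv_rev, hi a ha, hi b hb]

/-- Factor the bound through a normal subgroup `C`. -/
theorem relIndex_le_map_mul [Finite G] {R M C : Subgroup G} [C.Normal] (hM : M ≤ R) :
    M.relIndex R ≤ (M.map (QuotientGroup.mk' C)).relIndex (R.map (QuotientGroup.mk' C)) *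
      M.relIndex (R ⊓ C) := by
  set q := (M.map (QuotientGroup.mk' C)).relIndex (R.map (QuotientGroup.mk' C))
  have hrel : ∀ K : Subgroup G, C.relIndex K = Nat.card (K.map (QuotientGroup.mk' C)) := by
    intro K
    rw [← relIndex_bot_left (K.map (QuotientGroup.mk' C)), ← relIndex_comap, MonoidHom.comap_bot,
      QuotientGroup.ker_mk']
  have hCq : C.relIndex R = C.relIndex M * q := by
    rw [hrel, hrel, ← relIndex_bot_left (M.map _), ← relIndex_bot_left (R.map _)]
    exact (relIndex_mul_relIndex _ _ _ bot_le (map_mono hM)).symm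
  have h1 : M.relIndex R * (M ⊓ (R ⊓ C)).relIndex (M ⊓ R) ≤
      R.relIndex R * ((R ⊓ C).relIndex R * M.relIndex (R ⊓ C)) :=
    relIndex_split le_rfl inf_le_left
  rw [relIndex_self, one_mul, inf_relIndex_left, hCq, inf_eq_left.2 hM] at h1
  have h2 : (M ⊓ (R ⊓ C)).relIndex M = C.relIndex M := by
    rw [← inf_assoc, inf_eq_left.2 hM, inf_relIndex_left]
  rw [h2] at h1
  refine Nat.le_of_mul_le_mul_right ?_
    (Nat.pos_of_ne_zero (index_ne_zero_of_finite : C.relIndex M ≠ 0))
  calc M.relIndex R * C.relIndex M ≤ C.relIndex M * q * M.relIndex (R ⊓ C) := h1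
    _ = q * M.relIndex (R ⊓ C) * C.relIndex M := by ring

theorem map_sq {C : Subgroup G} [C.Normal] {R M : Subgroup G} (hsq : ∀ a ∈ R, a * a ∈ M) :
    ∀ a ∈ R.map (QuotientGroup.mk' C), a * a ∈ M.map (QuotientGroup.mk' C) := by
  rintro _ ⟨r, hr, rfl⟩
  exact ⟨r * r, hsq r hr, map_mul _ _ _⟩

theorem relIndex_le_card [Finite G] {R M : Subgroup G} : M.relIndex R ≤ Nat.card R := by
  rw [relIndex]
  exact Nat.le_of_dvd Nat.card_pos (index_dvd_card _)

universe u

/-- In a 2-group with an element whose centraliser has order at most four, every elementary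
abelian section has order at most four. -/
theorem relIndex_le_four {Q : Type u} [Group Q] [Finite Q] (hQ : IsPGroup 2 Q) {x : Q}
    (hx : Nat.card (centralizer ({x} : Set Q)) ≤ 4) {R M : Subgroup Q}
    (hsq : ∀ a ∈ R, a * a ∈ M) : M.relIndex R ≤ 4 := by
  haveI : Fact (Nat.Prime 2) := ⟨Nat.prime_two⟩
  by_cases hab : IsMulCommutative Q
  · have h1 : centralizer ({x} : Set Q) = ⊤ := eq_top_iff.2 fun y _ =>
      mem_centralizer_singleton_iff.2 (hab.is_comm.comm y x)
    rw [h1, card_top] at hx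
    exact relIndex_le_card.trans ((Nat.le_of_dvd Nat.card_pos (card_subgroup_dvd_card R)).trans hx)
  have hcls : Nat.card Q ≤ 4 * Nat.card (commutator Q) := by
    let F : Q ⧸ centralizer ({x} : Set Q) → commutator Q := fun q =>
      ⟨⁅Quotient.out q, x⁆, commutator_mem_commutator (mem_top _) (mem_top _)⟩
    have hF : Function.Injective F := fun p q e => by
      have h1 : ⁅Quotient.out p, x⁆ = ⁅Quotient.out q, x⁆ := congrArg Subtype.val e
      simp only [commutatorElement_def] at h1
      rw [← QuotientGroup.out_eq' p, ← QuotientGroup.out_eq' q, QuotientGroup.eq,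
        mem_centralizer_singleton_iff]
      have h2 := mul_right_cancel h1
      calc (Quotient.out p)⁻¹ * Quotient.out q * x
          = (Quotient.out p)⁻¹ * (Quotient.out q * x * (Quotient.out q)⁻¹) * Quotient.out q := by group
        _ = (Quotient.out p)⁻¹ * (Quotient.out p * x * (Quotient.out p)⁻¹) * Quotient.out q := by rw [h2]
        _ = x * ((Quotient.out p)⁻¹ * Quotient.out q) := by group
    have h1 := Nat.card_le_card_of_injective F hF
    rw [← index_eq_card] at h1
    rw [← (centralizer ({x} : Set Q)).index_mul_card, mul_comm 4]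
    exact Nat.mul_le_mul h1 hx
  obtain ⟨a, ha⟩ := Invol.exists_cyclic_index_two _ Q rfl hQ hab hcls
  have h1 := relIndex_split (M := M) (inf_le_left : R ⊓ zpowers a ≤ R) le_rfl
  simp only [relIndex_self, one_mul, mul_one, inf_relIndex_left] at h1
  have h2 : (zpowers a).relIndex R ≤ 2 :=
    ha ▸ (relIndex_top_right (zpowers a) ▸ relIndex_le_of_le_right le_top index_ne_zero_of_finite)
  obtain ⟨E, hE2, hEmem⟩ : ∃ E : Subgroup Q, Nat.card E ≤ 2 ∧
      ∀ y ∈ zpowers a, y ^ 2 = 1 → y ∈ E := by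
    let E : Subgroup Q :=
      { carrier := {y | y ∈ zpowers a ∧ y ^ 2 = 1}
        one_mem' := ⟨one_mem _, one_pow 2⟩
        mul_mem' := fun {b c} hb hc => ⟨mul_mem hb.1 hc.1, by
          obtain ⟨i, rfl⟩ := mem_zpowers_iff.1 hb.1
          obtain ⟨j, rfl⟩ := mem_zpowers_iff.1 hc.1
          rw [((Commute.refl a).zpow_zpow i j).mul_pow, hb.2, hc.2, one_mul]⟩
        inv_mem' := fun {b} hb => ⟨inv_mem hb.1, by rw [inv_pow, hb.2, inv_one]⟩ }
    refine ⟨E, ?_, fun y hy h2 => ⟨hy, h2⟩⟩
    classical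
    haveI := Fintype.ofFinite (zpowers a)
    have h3 := IsCyclic.card_pow_eq_one_le (α := zpowers a) (n := 2) two_pos
    refine le_trans ?_ h3
    rw [← Fintype.card_subtype, ← Nat.card_eq_fintype_card]
    exact Nat.card_le_card_of_injective (fun y : E => (⟨⟨y.1, y.2.1⟩, Subtype.ext y.2.2⟩ :
      {z : zpowers a // z ^ 2 = 1})) fun p q e =>
        Subtype.ext (congrArg (fun z : {z : zpowers a // z ^ 2 = 1} => (z.1 : Q)) e)
  have h3 : M.relIndex (R ⊓ zpowers a) ≤ 2 :=
    (relIndex_le_omega hQ (E := E) (F := R ⊓ zpowers a)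
      (fun y hy _ z hz => by
        obtain ⟨i, rfl⟩ := mem_zpowers_iff.1 hy.2
        obtain ⟨j, rfl⟩ := mem_zpowers_iff.1 hz.2
        exact ((Commute.refl a).zpow_zpow i j).eq)
      (fun y hy => hsq y hy.1) (fun y hy => hEmem y hy.2)).trans hE2
  have h4 := Nat.mul_le_mul h2 h3
  exact h1.trans h4

/-- A four-group equal to its centraliser contains an element with centraliser of order four. -/
theorem exists_small_centralizer {Q : Type u} [Group Q] [Finite Q] (hQ : IsPGroup 2 Q)
    {B : Subgroup Q} (hB : Nat.card B ≤ 4)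
    (hc : centralizer (B : Set Q) ≤ B) :
    ∃ x : Q, Nat.card (centralizer ({x} : Set Q)) ≤ 4 := by
  haveI : Fact (Nat.Prime 2) := ⟨Nat.prime_two⟩
  by_cases hb : ∀ b ∈ B, b ∈ center Q
  · refine ⟨1, ?_⟩
    have h1 : (⊤ : Subgroup Q) ≤ B := fun y _ => hc (mem_centralizer_iff.2 fun b hb' =>
      (mem_center_iff.1 (hb b hb') y).symm)
    refine le_trans ?_ hB
    exact card_le_of_le (le_top.trans h1)
  push Not at hb
  obtain ⟨b, hbB, hbZ⟩ := hb
  haveI : Nontrivial Q := ⟨⟨b, 1, fun e => hbZ (e ▸ one_mem _)⟩⟩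
  haveI := hQ.center_nontrivial
  obtain ⟨⟨z, hz⟩, hz1⟩ := exists_ne (1 : center Q)
  have hzB : z ∈ B := hc (mem_centralizer_iff.2 fun c _ => mem_center_iff.1 hz c)
  refine ⟨b, (card_le_of_le ?_).trans hB⟩
  intro y hy
  refine hc (mem_centralizer_iff.2 fun c hcB => ?_)
  -- `B` is generated by `z` and `b`
  have hgen : c = 1 ∨ c = z ∨ c = b ∨ c = z * b := by
    classical
    by_contra hno
    push Not at hno
    have hzb : z * b ≠ 1 := fun e => hbZ (by
      rw [eq_inv_of_mul_eq_one_right e]; exact inv_mem hz)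
    have hb1 : b ≠ 1 := fun e => hbZ (e ▸ one_mem _)
    have hz1' : z ≠ 1 := fun e => hz1 (Subtype.ext e)
    have hbz : b ≠ z := fun e => hbZ (e ▸ hz)
    haveI := Fintype.ofFinite B
    have h5 : ({1, z, b, z * b, c} : Finset Q).card ≤
        (Finset.univ.map (Function.Embedding.subtype fun y => y ∈ B)).card := by
      refine Finset.card_le_card fun y hy => ?_
      simp only [Finset.mem_insert, Finset.mem_singleton] at hy
      simp only [Finset.mem_map, Finset.mem_univ, true_and, Function.Embedding.coe_subtype]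
      rcases hy with rfl | rfl | rfl | rfl | rfl
      exacts [⟨1, rfl⟩, ⟨⟨_, hzB⟩, rfl⟩, ⟨⟨_, hbB⟩, rfl⟩, ⟨⟨_, mul_mem hzB hbB⟩, rfl⟩,
        ⟨⟨_, hcB⟩, rfl⟩]
    rw [Finset.card_map, Finset.card_univ, ← Nat.card_eq_fintype_card,
      Finset.card_insert_of_notMem, Finset.card_insert_of_notMem,
      Finset.card_insert_of_notMem, Finset.card_pair (Ne.symm hno.2.2.2)] at h5
    · omega
    all_goals simp [Ne.symm hz1', Ne.symm hb1, Ne.symm hbz, Ne.symm hzb, Ne.symm hno.1,
      Ne.symm hno.2.1, Ne.symm hno.2.2.1, hz1', hb1]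
  have hyb : y * b = b * y := mem_centralizer_singleton_iff.1 hy
  rcases hgen with rfl | rfl | rfl | rfl
  · rw [one_mul, mul_one]
  · exact (mem_center_iff.1 hz y).symm
  · exact hyb.symm
  · rw [mul_assoc, ← hyb, ← mul_assoc, ← mem_center_iff.1 hz y, mul_assoc]

end CfsgLib.PGroup.SelfCentEight
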