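import Cfsg.Agent.Lib.PGroup.SelfCentEight.CaseTwo

/-!
# The bound in the case `|A ∩ F| = 4`
-/

set_option autoImplicit false
set_option linter.unusedSectionVars false
set_option linter.style.haveILetI false

open Subgroup

namespace CfsgLib.PGroup.SelfCentEight

open CfsgLib.PGroup.FourGen

variable {G : Type*} [Group G]

theorem cm_mul_left (g h n : G) : cm (g * h) n = g * cm h n * g⁻¹ * cm g n := by
  unfold cm; group

variable [Finite G]

namespace Two

variable {A F N : Subgroup G} {a c₀ y : G} (T : Two A F N a c₀ y)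
include T

theorem mem_C_of {g : G} (hgy : g * y = y * g) (hgF : ∀ f ∈ F, g * f = f * g) :
    g ∈ centralizer (N : Set G) := by
  refine mem_centralizer_iff.2 fun n hn => ?_
  rcases T.sq n hn with h | h
  · exact (hgF n h).symm
  · rw [← mul_inv_cancel_left y n, mul_assoc, ← hgF _ h, ← mul_assoc, ← hgy, mul_assoc]

theorem commutes_mod {s : G} (hy : a * cm s y = cm s y * a ∧ s * cm a y = cm a y * s)
    (hF : ∀ f ∈ F, a * cm s f = cm s f * a ∧ s * cm a f = cm a f * s) :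
    cm a s ∈ centralizer (N : Set G) := by
  haveI := T.ctx.max.normal
  have key : ∀ n ∈ N, a * cm s n = cm s n * a → s * cm a n = cm a n * s →
      s⁻¹ * (a * s * a⁻¹) * n = n * (s⁻¹ * (a * s * a⁻¹)) := fun n hn h1 h2 => by
    have e1 : cm (a * s) n = cm (s * a) n := by
      rw [cm_mul_left, cm_mul_left, h1, mul_inv_cancel_right, h2, mul_inv_cancel_right]
      exact T.ctx.max.comm _ (cm_mem s hn) _ (cm_mem a hn)
    have e2 : a * s * n * (a * s)⁻¹ = s * a * n * (s * a)⁻¹ := mul_right_cancel e1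
    have ha' : a * n * a⁻¹ ∈ N := Subgroup.Normal.conj_mem inferInstance n hn a
    have ha1 : a * a = 1 := by rw [← pow_two]; exact T.ctx.mod.eight.exp a T.memA
    -- conjugation by `a s a⁻¹` and by `s` agree on `a n a⁻¹`
    have e3 : a * s * a⁻¹ * (a * n * a⁻¹) * (a * s * a⁻¹)⁻¹ = s * (a * n * a⁻¹) * s⁻¹ := by
      calc a * s * a⁻¹ * (a * n * a⁻¹) * (a * s * a⁻¹)⁻¹ = a * s * n * (a * s)⁻¹ := by group
        _ = s * a * n * (s * a)⁻¹ := e2
        _ = s * (a * n * a⁻¹) * s⁻¹ := by group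
    have e4 : a * n * a⁻¹ = cm a n * n := conj_eq_cm a n
    rw [e4] at e3
    have hg : ∀ g : G, g * cm a n = cm a n * g → g * (cm a n * n) * g⁻¹ = cm a n * (g * n * g⁻¹) :=
      fun g hg => by rw [← mul_assoc g, hg]; group
    have hasa : a * s * a⁻¹ * cm a n = cm a n * (a * s * a⁻¹) := by
      have h3 := T.ctx.mod.fix_cm_of_mem (x := n) T.memA
        (T.ctx.cm_N_four T.four T.memA T.notF hn).2
      have h4 : a⁻¹ * cm a n = cm a n * a⁻¹ := ((show Commute a (cm a n) from h3).inv_left).eq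
      calc a * s * a⁻¹ * cm a n = a * (s * cm a n) * a⁻¹ := by rw [mul_assoc _ a⁻¹, h4]; group
        _ = a * cm a n * (s * a⁻¹) := by rw [h2]; group
        _ = cm a n * (a * s * a⁻¹) := by rw [h3]; group
    rw [hg _ hasa, hg s h2] at e3
    have e5 := mul_left_cancel e3
    have e6 : s⁻¹ * (a * s * a⁻¹) * n = n * (s⁻¹ * (a * s * a⁻¹)) := by
      calc s⁻¹ * (a * s * a⁻¹) * n = s⁻¹ * (a * s * a⁻¹ * n * (a * s * a⁻¹)⁻¹) * (a * s * a⁻¹) := by group
        _ = s⁻¹ * (s * n * s⁻¹) * (a * s * a⁻¹) := by rw [e5]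
        _ = n * (s⁻¹ * (a * s * a⁻¹)) := by group
    exact e6
  have hcen : s⁻¹ * (a * s * a⁻¹) ∈ centralizer (N : Set G) := by
    refine T.mem_C_of (key y T.memN hy.1 hy.2) fun f hf => key f (T.ctx.le hf) (hF f hf).1 (hF f hf).2
  haveI := T.normal_C
  rw [show cm a s = s * (s⁻¹ * (a * s * a⁻¹)) * s⁻¹ by unfold cm; group]
  exact Subgroup.Normal.conj_mem inferInstance _ hcen s

theorem inP_of_X {x : G} (hx : x ∈ centralizer (F : Set G)) (hI : cm x y ∈ A ⊓ F) : T.InP x := by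
  haveI := T.ctx.mod.normal
  refine ⟨T.commutes_mod ⟨(T.ctx.mod.eight.comm T.memA hI.1).eq,
    (mem_centralizer_iff.1 hx _ T.d_mem.2).symm⟩ fun f hf => ⟨?_, ?_⟩,
    fun i hi => (mem_centralizer_iff.1 hx i hi.2).symm⟩
  · rw [cm_eq_one_iff.2 (mem_centralizer_iff.1 hx f hf).symm, mul_one, one_mul]
  · exact (mem_centralizer_iff.1 hx _ (cm_mem a hf)).symm

theorem mem_C_of_inCA {x : G} (hx : x ∈ centralizer (F : Set G)) (h : T.InCA x) :
    x ∈ centralizer (N : Set G) := by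
  rcases T.inCA_cases h with h' | h'
  · exact h'
  · exfalso
    refine T.notF (T.ctx.mod.mem_I_of_mem_X T.memA ?_)
    rw [show a = x * (a⁻¹ * x)⁻¹ by group]
    exact mul_mem hx (inv_mem (T.ctx.C_le_X h'))

theorem noshift {x : G} (hx : x ∈ centralizer (F : Set G)) : cm x y ≠ c₀ := by
  intro he
  haveI := T.ctx.mod.normal
  haveI := T.ctx.max.normal
  have hP : T.InP x := T.inP_of_X hx (he ▸ T.mem0)
  have hxC : x ∉ centralizer (N : Set G) := fun h => T.ne0 (by
    rw [← he]; exact cm_eq_one_iff.2 (mem_centralizer_iff.1 h y T.memN).symm)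
  have hn : ¬ T.InCA x := fun h => hxC (T.mem_C_of_inCA hx h)
  by_cases hqc : y * y = c₀
  · exact hn (T.inCA_of_eq hqc hP)
  have hxn : ∀ n ∈ N, n ∉ F → cm x n = c₀ := fun n hn' hnF => by
    have h := (T.sq n hn').resolve_left hnF
    rw [← mul_inv_cancel_left y n, cm_mul_right (x := y), he,
      cm_eq_one_iff.2 (mem_centralizer_iff.1 hx _ h).symm, mul_one]
    rw [cm_eq_one_iff.2 (mem_centralizer_iff.1 hx _ h).symm]
    exact Commute.one_right y
  have hCN : centralizer (N : Set G) ≤ N := by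
    by_contra h
    obtain ⟨n, hn', hnF, hg⟩ := T.ctx.exists_rigid T.memN T.notY T.sq h
    rcases hg x with e | e <;> rw [hxn n hn' hnF] at e
    · exact T.ne0 e
    · exact hqc e.symm
  refine T.gen (T.norm.resolve_left hqc) hqc hP hn (Or.inr he) (fun d hd => ?_)
    ⟨1, one_mem _, x * x, ?_, by simp⟩
  · refine T.ctx.cm_mem_F (hCN hd) ?_
    rcases T.ctx.sq_cases T.memN T.notY T.sq (hCN hd) with e | e <;> rw [e]
    exacts [Commute.one_right x, T.q_fix x]
  · have hC : x * x ∈ centralizer (N : Set G) := by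
      refine T.mem_C_of ?_ fun f hf =>
        ((show Commute x f from (mem_centralizer_iff.1 hx f hf).symm).mul_left
          (mem_centralizer_iff.1 hx f hf).symm).eq
      refine cm_eq_one_iff.1 ?_
      rw [cm_mul_left, he, (mem_centralizer_iff.1 hx c₀ T.mem0.2).symm, mul_inv_cancel_right,
        ← pow_two, T.ctx.mod.exp c₀ T.mem0.2]
    by_contra hF
    have h1 := hxn _ (hCN hC) hF
    rw [cm_eq_one_iff.2 (show x * (x * x) = x * x * x by group)] at h1
    exact T.ne0 h1.symm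

theorem relIndex_X : (centralizer (N : Set G)).relIndex (centralizer (F : Set G)) ≤ 2 := by
  classical
  haveI := T.ctx.mod.normal
  haveI := T.ctx.max.normal
  haveI := T.ctx.X_normal
  have hI : ∀ x ∈ centralizer (F : Set G), cm x y ∈ A ⊓ F := by
    intro x hx
    by_contra hf
    set f := cm x y with hf'
    have hfF : f ∈ F := T.ctx.cm_mem_F T.memN (T.q_fix x)
    have hfa : cm a f ≠ 1 := fun e => hf (by
      rw [← T.ctx.mod.fix_eq_of_four T.four T.memA T.notF]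
      exact T.ctx.mod.mem_fix.2 ⟨hfF, (cm_eq_one_iff.1 e).symm⟩)
    refine T.noshift (x := cm a x) (cm_mem a hx) ?_
    rw [← (T.cases0 f hfF).resolve_left hfa]
    have hgX : a * x * a⁻¹ ∈ centralizer (F : Set G) := Subgroup.Normal.conj_mem inferInstance x hx a
    have h1 : cm (a * x * a⁻¹) y = a * f * a⁻¹ := by
      have hu : cm a⁻¹ y ∈ F := T.ctx.cm_mem_F T.memN (T.q_fix _)
      have h2 : x * (cm a⁻¹ y * y) * x⁻¹ = cm a⁻¹ y * (f * y) := by
        rw [show x * (cm a⁻¹ y * y) * x⁻¹ = x * cm a⁻¹ y * x⁻¹ * (x * y * x⁻¹) by group,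
          (mem_centralizer_iff.1 hx _ hu).symm, mul_inv_cancel_right, conj_eq_cm x y]
      calc cm (a * x * a⁻¹) y = a * (x * (cm a⁻¹ y * y) * x⁻¹) * a⁻¹ * y⁻¹ := by unfold cm; group
        _ = a * (f * (cm a⁻¹ y * y)) * a⁻¹ * y⁻¹ := by
          rw [h2, ← mul_assoc (cm a⁻¹ y), (T.ctx.mod.e_comm hu hfF).eq]; simp only [mul_assoc]
        _ = a * f * a⁻¹ := by unfold cm; group
    have h2 : cm x⁻¹ y = f := by
      have h3 : x⁻¹ * (f * y) * x = y := by rw [hf']; unfold cm; group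
      have h4 : x⁻¹ * f * x = f := by
        rw [mul_assoc, mem_centralizer_iff.1 hx f hfF, inv_mul_cancel_left]
      have h5 : x⁻¹ * y * x = f * y := by
        calc x⁻¹ * y * x = f * (f * (x⁻¹ * y * x)) := by
              rw [← mul_assoc f f, ← pow_two, T.ctx.mod.exp f hfF, one_mul]
          _ = f * (x⁻¹ * f * x * (x⁻¹ * y * x)) := by rw [h4]
          _ = f * (x⁻¹ * (f * y) * x) := by group
          _ = f * y := by rw [h3]
      show x⁻¹ * y * x⁻¹⁻¹ * y⁻¹ = f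
      rw [inv_inv, h5, mul_inv_cancel_right]
    rw [show cm a x = a * x * a⁻¹ * x⁻¹ from rfl, cm_mul_left, h2, h1,
      (mem_centralizer_iff.1 hgX f hfF).symm, mul_inv_cancel_right,
      (T.ctx.mod.e_comm hfF (Subgroup.Normal.conj_mem inferInstance f hfF a)).eq]
    show a * f * a⁻¹ * f = a * f * a⁻¹ * f⁻¹
    rw [inv_eq_self (T.ctx.mod.exp f hfF)]
  refine (relIndex_le_of_map (fun x => decide (x ∈ centralizer (N : Set G))) (Finset.univ : Finset Bool)
    (fun _ _ => Finset.mem_univ _) fun s hs t ht e => ?_).trans (by simp)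
  simp only [decide_eq_decide] at e
  by_cases h : s ∈ centralizer (N : Set G)
  · exact mul_mem (inv_mem h) (e.1 h)
  · exact T.mem_C_of_inCA (mul_mem (inv_mem hs) ht) (T.two_cosets (T.inP_of_X hs (hI s hs))
      (T.inP_of_X ht (hI t ht)) (fun h' => h (T.mem_C_of_inCA hs h'))
      fun h' => h (e.2 (T.mem_C_of_inCA ht h')))

/-- The action fixes `F / ⟨q⟩` and `y ⟨q⟩`. -/
def InK (_T : Two A F N a c₀ y) (s : G) : Prop :=
  ∀ n ∈ N, cm s n = 1 ∨ cm s n = y * y

theorem InK_mul {s t : G} (hs : T.InK s) (ht : T.InK t) : T.InK (s * t) := fun n hn => by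
  have hfix : s * cm t n * s⁻¹ = cm t n := by
    rcases ht n hn with e | e <;> rw [e]
    · group
    · rw [T.q_fix, mul_inv_cancel_right]
  rw [cm_mul_left, hfix]
  rcases hs n hn with e | e <;> rcases ht n hn with e' | e' <;> rw [e, e']
  · exact Or.inl (mul_one 1)
  · exact Or.inr (mul_one _)
  · exact Or.inr (one_mul _)
  · exact Or.inl (by rw [← pow_two, T.ctx.mod.exp _ T.q_mem.2])

theorem InK_inv {s : G} (hs : T.InK s) : T.InK s⁻¹ := fun n hn => by
  haveI := T.ctx.max.normal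
  have hn' : s⁻¹ * n * s ∈ N := by
    simpa using (inferInstance : N.Normal).conj_mem n hn s⁻¹
  have e : cm s⁻¹ n = (cm s (s⁻¹ * n * s))⁻¹ := by unfold cm; group
  rw [e]
  rcases hs _ hn' with h | h <;> rw [h]
  · exact Or.inl inv_one
  · exact Or.inr (inv_eq_self (T.ctx.mod.exp _ T.q_mem.2))

theorem InK_good {s : G} (hs : T.InK s) (h0 : s * c₀ = c₀ * s) (h1 : s * cm a y = cm a y * s)
    (hsC : s ∉ centralizer (N : Set G)) : T.InP s ∧ ¬ T.InCA s := by
  have hI : ∀ i ∈ A ⊓ F, s * i = i * s := fun i hi => by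
    rcases T.I_cases hi with rfl | rfl | rfl | rfl
    · rw [one_mul, mul_one]
    · exact h0
    · exact h1
    · rw [← mul_assoc, h0, mul_assoc, h1, mul_assoc]
  have hfix : ∀ n ∈ N, a * cm s n = cm s n * a ∧ s * cm a n = cm a n * s := fun n hn => by
    refine ⟨?_, hI _ (T.ctx.cm_N_four T.four T.memA T.notF hn)⟩
    rcases hs n hn with e | e <;> rw [e]
    · rw [mul_one, one_mul]
    · exact T.q_fix a
  refine ⟨⟨T.commutes_mod (hfix y T.memN) fun f hf => hfix f (T.ctx.le hf), hI⟩, fun hCA => ?_⟩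
  rcases T.inCA_cases hCA with h | h
  · exact hsC h
  have hsame : ∀ n ∈ N, cm s n = cm a n := fun n hn => by
    nth_rw 1 [← mul_inv_cancel_left a s]
    rw [cm_mul_left, cm_eq_one_iff.2 (mem_centralizer_iff.1 h n hn).symm, mul_one, mul_inv_cancel,
      one_mul]
  obtain ⟨f, hf, hf'⟩ := T.reach0
  have e1 : c₀ = y * y := by
    rcases hs f (T.ctx.le hf) with e | e <;> rw [hsame f (T.ctx.le hf), hf'] at e
    exacts [absurd e T.ne0, e]
  rcases hs y T.memN with e | e <;> rw [hsame y T.memN] at e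
  · exact T.d_ne.1 e
  · exact T.d_ne.2 (e.trans e1.symm)

theorem cm_mod_C (t : G) : ∀ d ∈ centralizer (N : Set G), cm (cm a t) d ∈ F := by
  haveI := T.normal_C
  haveI := T.ctx.mod.normal
  obtain ⟨-, b, hb, hdec⟩ := T.ctx.structure_C T.memN T.notY T.sq
  set p := QuotientGroup.mk' F with hp
  have hpC : ∀ x ∈ centralizer (N : Set G), ∃ i : ℤ, p x = p b ^ i := fun x hx => by
    obtain ⟨i, hi⟩ := hdec x hx
    refine ⟨i, ?_⟩
    rw [← map_zpow, ← mul_inv_cancel_left (b ^ i) x, map_mul,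
      show p ((b ^ i)⁻¹ * x) = 1 from (QuotientGroup.eq_one_iff _).2 hi, mul_one]
  obtain ⟨i, hi⟩ := hpC _ (Subgroup.Normal.conj_mem inferInstance b hb a)
  obtain ⟨k, hk⟩ := hpC _ (Subgroup.Normal.conj_mem inferInstance b hb t⁻¹)
  obtain ⟨j, hj⟩ := hpC _ (Subgroup.Normal.conj_mem inferInstance b hb t)
  simp only [map_mul, map_inv, inv_inv] at hi hk hj
  have ha1 : (p a)⁻¹ = p a := by rw [← map_inv, inv_eq_self (T.ctx.mod.eight.exp a T.memA)]
  have hab : p (cm a t) * p b * (p (cm a t))⁻¹ = p b := by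
    have hii : p b ^ (i * i) = p b := by
      rw [zpow_mul, ← hi, conj_zpow, ← hi]
      calc p a * (p a * p b * (p a)⁻¹) * (p a)⁻¹ = (p a * p a) * p b * ((p a)⁻¹ * (p a)⁻¹) := by group
        _ = p b := by rw [ha1, show p a * p a = 1 by rw [← map_mul, ← pow_two, T.ctx.mod.eight.exp a T.memA, map_one]]; group
    have hjk : p b ^ (j * k) = p b := by
      rw [zpow_mul, ← hj, conj_zpow, ← hk]; group
    calc p (cm a t) * p b * (p (cm a t))⁻¹
        = p a * (p t * ((p a)⁻¹ * ((p t)⁻¹ * p b * p t) * p a) * (p t)⁻¹) * (p a)⁻¹ := by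
          simp only [cm, map_mul, map_inv]; group
      _ = p a * (p t * (p a * (p b ^ k) * (p a)⁻¹) * (p t)⁻¹) * (p a)⁻¹ := by rw [hk, ha1]
      _ = p b ^ (i * j * (i * k)) := by
          rw [← conj_zpow, hi, ← zpow_mul, ← conj_zpow, hj, ← zpow_mul, ← conj_zpow, hi, ← zpow_mul,
            ← mul_assoc]
      _ = p b := by
          rw [show i * j * (i * k) = i * i * (j * k) by ring, zpow_mul, hii, hjk]
  intro d hd
  refine (QuotientGroup.eq_one_iff _).1 ?_
  obtain ⟨m, hm⟩ := hpC d hd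
  show p (cm a t * d * (cm a t)⁻¹ * d⁻¹) = 1
  rw [map_mul, map_mul, map_mul, map_inv, map_inv, hm, ← conj_zpow, hab, mul_inv_cancel]

theorem relIndex_le {R M : Subgroup G} (hM : M ≤ R) (hsq : ∀ r ∈ R, r * r ∈ M) :
    M.relIndex R ≤ 16 := by
  classical
  haveI := T.normal_C
  haveI := T.ctx.mod.normal
  haveI := T.ctx.max.normal
  set C := centralizer (N : Set G) with hC
  set π := QuotientGroup.mk' C with hπ
  set q := (M.map π).relIndex (R.map π) with hqdef
  have hmain : M.relIndex R ≤ q * M.relIndex (R ⊓ C) := relIndex_le_map_mul hM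
  have hq4 : q ≤ 4 := relIndex_le_four (T.ctx.two.to_quotient C) T.centraliser_le (map_sq hsq)
  rcases Nat.lt_or_ge (M.relIndex (R ⊓ C)) 5 with hi | hi
  · have := Nat.mul_le_mul hq4 (Nat.le_of_lt_succ hi)
    omega
  suffices hR : C.relIndex R ≤ 2 by
    have h1 : C.relIndex R = Nat.card (R.map π) := by
      rw [← relIndex_bot_left (R.map π), ← relIndex_comap, MonoidHom.comap_bot, hπ,
        QuotientGroup.ker_mk']
    have h2 : q ≤ 2 := le_trans (hqdef ▸ relIndex_le_card) (h1 ▸ hR)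
    have h8 : M.relIndex (R ⊓ C) ≤ 8 := T.ctx.cardF ▸ relIndex_le_omega (F := R ⊓ C) T.ctx.two
      (fun x hx h4 w hw => T.comm_C hx.2 hw.2) (fun x hx => hsq x hx.1)
      (fun x hx h2 => T.ctx.mem_F hx.2 h2)
    have := Nat.mul_le_mul h2 h8
    omega
  obtain ⟨hFR, hsquare⟩ := T.ctx.squares_of_large T.memN T.notY T.sq hsq hi
  have hcmR : ∀ r ∈ R, ∀ x ∈ R ⊓ C, ∃ d ∈ R ⊓ C, cm r x = d * d := fun r hr x hx =>
    hsquare _ (commutator_mem_of_sq hsq hr hx.1) (mem_inf.2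
      ⟨R.mul_mem (R.mul_mem (R.mul_mem hr hx.1) (R.inv_mem hr)) (R.inv_mem hx.1), cm_mem r hx.2⟩)
  by_cases hall : R ⊓ C ≤ F
  · -- then `R` centralises `F`
    refine le_trans (relIndex_le_of_le_right ?_ index_ne_zero_of_finite) T.relIndex_X
    intro r hr
    refine mem_centralizer_iff.2 fun f hf => ?_
    obtain ⟨d, hd, hdd⟩ := hcmR r hr f (mem_inf.2 ⟨hFR hf, T.ctx.N_le_C (T.ctx.le hf)⟩)
    rw [← pow_two, T.ctx.mod.exp d (hall hd)] at hdd
    exact (cm_eq_one_iff.1 hdd).symm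
  obtain ⟨d, hd, hdF⟩ := SetLike.not_le_iff_exists.1 hall
  obtain ⟨n₀, hn₀R, hn₀, hn₀F⟩ : ∃ n ∈ R, n ∈ N ∧ n ∉ F := by
    by_cases h4 : d ^ 4 = 1
    · exact ⟨d, hd.1, T.ctx.mem_N hd.2 h4, hdF⟩
    · obtain ⟨k, -, ho⟩ := exists_pow_order_four T.ctx.two h4
      refine ⟨d ^ 2 ^ k, pow_mem hd.1 _,
        T.ctx.mem_N (pow_mem hd.2 _) (ho ▸ pow_orderOf_eq_one _), fun h => ?_⟩
      have h2 := orderOf_dvd_iff_pow_eq_one.2 (T.ctx.mod.exp _ h)
      rw [ho] at h2
      norm_num at h2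
  have hK : ∀ r ∈ R, T.InK r := by
    intro r hr n hn
    have hbase : ∀ m ∈ N, m ∈ R → cm r m = 1 ∨ cm r m = y * y := fun m hm hmR => by
      obtain ⟨d', hd', hdd⟩ := hcmR r hr m (mem_inf.2 ⟨hmR, T.ctx.N_le_C hm⟩)
      have hF' : cm r m ∈ F := by
        refine T.ctx.cm_mem_F hm ?_
        rcases T.ctx.sq_cases T.memN T.notY T.sq hm with e | e <;> rw [e]
        exacts [Commute.one_right r, T.q_fix r]
      rw [hdd]
      exact T.ctx.sq_mem_F T.memN T.notY T.sq hd'.2 (hdd ▸ hF')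
    refine hbase n hn ?_
    by_cases hnF : n ∈ F
    · exact hFR hnF
    · rw [← mul_inv_cancel_left n₀ n]
      refine mul_mem hn₀R (hFR ?_)
      have h1 := (T.sq n hn).resolve_left hnF
      have h2 := (T.sq n₀ hn₀).resolve_left hn₀F
      rw [show n₀⁻¹ * n = (y⁻¹ * n₀)⁻¹ * (y⁻¹ * n) by group]
      exact mul_mem (inv_mem h2) h1
  let Fix : G → Prop := fun r => r * c₀ = c₀ * r ∧ r * cm a y = cm a y * r
  have hcmc : ∀ s, T.InK s → cm s c₀ = 1 ∨ cm s c₀ = y * y := fun s hs => hs c₀ (T.ctx.le T.mem0.2)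
  have hFixMov : ∀ s t, T.InK s → T.InK t → ¬ Fix s → ¬ Fix t → Fix (s⁻¹ * t) := by
    intro s t hs ht hs' ht'
    have hboth : ∀ i ∈ N, ((s * i ≠ i * s) → (t * i ≠ i * t) →
        (s⁻¹ * t) * i = i * (s⁻¹ * t)) := fun i hi h1 h2 => by
      have e1 : cm s i = y * y := (hs i hi).resolve_left fun e => h1 (cm_eq_one_iff.1 e)
      have e2 : cm t i = y * y := (ht i hi).resolve_left fun e => h2 (cm_eq_one_iff.1 e)
      have e3 : s * i * s⁻¹ = t * i * t⁻¹ := by rw [conj_eq_cm, conj_eq_cm, e1, e2]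
      calc s⁻¹ * t * i = s⁻¹ * (t * i * t⁻¹) * t := by group
        _ = s⁻¹ * (s * i * s⁻¹) * t := by rw [e3]
        _ = i * (s⁻¹ * t) := by group
    rcases T.norm with hqc | hq
    · have hfix : ∀ u, u * c₀ = c₀ * u := fun u => hqc ▸ T.q_fix u
      exact ⟨hfix _, hboth _ (T.ctx.le T.d_mem.2) (fun e => hs' ⟨hfix s, e⟩) (fun e => ht' ⟨hfix t, e⟩)⟩
    · have hfix : ∀ u, u * cm a y = cm a y * u := fun u => hq ▸ T.q_fix u
      exact ⟨hboth _ (T.ctx.le T.mem0.2) (fun e => hs' ⟨e, hfix s⟩) (fun e => ht' ⟨e, hfix t⟩), hfix _⟩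
  have hsmall : (∀ r ∈ R, Fix r → r ∈ C) ∨ (∀ r ∈ R, Fix r) → C.relIndex R ≤ 2 := by
    intro hor
    refine (relIndex_le_of_map (fun x => decide (x ∈ C)) (Finset.univ : Finset Bool)
      (fun _ _ => Finset.mem_univ _) fun s hs t ht e => ?_).trans (by simp)
    simp only [decide_eq_decide] at e
    by_cases h : s ∈ C
    · exact mul_mem (inv_mem h) (e.1 h)
    have h' : t ∉ C := fun h' => h (e.2 h')
    rcases hor with hor | hor
    · exact hor _ (R.mul_mem (R.inv_mem hs) ht)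
        (hFixMov s t (hK s hs) (hK t ht) (fun f => h (hor s hs f)) (fun f => h' (hor t ht f)))
    · by_contra hn
      obtain ⟨hsP, hsn⟩ := T.InK_good (hK s hs) (hor s hs).1 (hor s hs).2 h
      obtain ⟨htP, htn⟩ := T.InK_good (hK t ht) (hor t ht).1 (hor t ht).2 h'
      have hst := R.mul_mem (R.inv_mem hs) ht
      exact (T.InK_good (hK _ hst) (hor _ hst).1 (hor _ hst).2 hn).2 (T.two_cosets hsP htP hsn htn)
  by_cases h1 : ∀ r ∈ R, Fix r → r ∈ C
  · exact hsmall (Or.inl h1)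
  by_cases h2 : ∀ r ∈ R, Fix r
  · exact hsmall (Or.inr h2)
  exfalso
  push Not at h1 h2
  obtain ⟨r, hr, hrfix, hrC⟩ := h1
  obtain ⟨t, ht, htfix⟩ := h2
  obtain ⟨hrP, hrn⟩ := T.InK_good (hK r hr) hrfix.1 hrfix.2 hrC
  by_cases hqc : y * y = c₀
  · exact hrn (T.inCA_of_eq hqc hrP)
  have hq := T.norm.resolve_left hqc
  have htc : cm t c₀ = y * y := (hcmc t (hK t ht)).resolve_left fun e =>
    htfix ⟨cm_eq_one_iff.1 e, hq ▸ T.q_fix t⟩
  set g := cm a t with hg
  have hconjK : ∀ n ∈ N, cm (a * t * a⁻¹) n = a * cm t (a⁻¹ * n * a) * a⁻¹ := fun n _ => by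
    unfold cm; group
  have hinvN : ∀ n ∈ N, a⁻¹ * n * a ∈ N := fun n hn => by
    simpa using (inferInstance : N.Normal).conj_mem n hn a⁻¹
  have hgn : ∀ n ∈ N, cm g n = cm t⁻¹ n * cm t (a⁻¹ * n * a) := fun n hn => by
    have e1 : (a * t * a⁻¹) * cm t⁻¹ n * (a * t * a⁻¹)⁻¹ = cm t⁻¹ n := by
      rcases T.InK_inv (hK t ht) n hn with e | e <;> rw [e]
      · group
      · rw [T.q_fix, mul_inv_cancel_right]
    rw [show g = a * t * a⁻¹ * t⁻¹ from rfl, cm_mul_left, e1, hconjK n hn]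
    congr 1
    rcases hK t ht _ (hinvN n hn) with e | e <;> rw [e]
    · group
    · rw [T.q_fix, mul_inv_cancel_right]
  have hgK : T.InK g := fun n hn => by
    rw [hgn n hn]
    rcases T.InK_inv (hK t ht) n hn with e | e <;> rcases hK t ht _ (hinvN n hn) with e' | e' <;>
      rw [e, e']
    · exact Or.inl (mul_one 1)
    · exact Or.inr (one_mul _)
    · exact Or.inr (mul_one _)
    · exact Or.inl (by rw [← pow_two, T.ctx.mod.exp _ T.q_mem.2])
  have ha1 : a⁻¹ = a := inv_eq_self (T.ctx.mod.eight.exp a T.memA)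
  have hainv : ∀ n : G, a⁻¹ * n * a = cm a n * n := fun n => by
    rw [← conj_eq_cm, ha1]
  have htinv : ∀ n ∈ N, cm t n = 1 ∨ cm t n = y * y → cm t⁻¹ n = cm t n := fun n hn hor => by
    have h3 : cm t⁻¹ n = (t⁻¹ * cm t n * t)⁻¹ := by unfold cm; group
    rw [h3]
    rcases hor with e | e <;> rw [e]
    · group
    · rw [mul_assoc, ← T.q_fix, inv_mul_cancel_left, inv_eq_self (T.ctx.mod.exp _ T.q_mem.2)]
  have htq : cm t (y * y) = 1 := cm_eq_one_iff.2 (T.q_fix t)
  have hgy : cm g y = 1 := by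
    rw [hgn y T.memN, hainv, hq, T.cm_hom_C t (T.ctx.N_le_C (T.ctx.le T.q_mem.2)) (T.ctx.N_le_C T.memN),
      htq, one_mul, htinv y T.memN (hK t ht y T.memN)]
    rcases hK t ht y T.memN with e | e <;> rw [e]
    · rw [one_mul]
    · rw [← pow_two, T.ctx.mod.exp _ T.q_mem.2]
  have hgc : g * c₀ = c₀ * g := by
    refine cm_eq_one_iff.1 ?_
    rw [hgn c₀ (T.ctx.le T.mem0.2),
      show a⁻¹ * c₀ * a = c₀ by rw [mul_assoc, (T.ctx.mod.eight.comm T.mem0.1 T.memA).eq, inv_mul_cancel_left],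
      htinv c₀ (T.ctx.le T.mem0.2) (Or.inr htc), htc, ← pow_two, T.ctx.mod.exp _ T.q_mem.2]
  have hgC : g ∉ C := fun h => by
    obtain ⟨f, hf, hf'⟩ := T.reach0
    have h3 := cm_eq_one_iff.2 (mem_centralizer_iff.1 h f (T.ctx.le hf)).symm
    rw [hgn f (T.ctx.le hf), hainv, hf', T.cm_hom_C t (T.ctx.N_le_C (T.ctx.le T.mem0.2))
      (T.ctx.N_le_C (T.ctx.le hf)), htc, htinv f (T.ctx.le hf) (hK t ht f (T.ctx.le hf))] at h3
    rcases hK t ht f (T.ctx.le hf) with e | e <;> rw [e] at h3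
    · exact T.ctx.q_ne T.memN T.notY T.sq (by simpa using h3)
    · rw [← pow_two (y * y), T.ctx.mod.exp _ T.q_mem.2, mul_one] at h3
      exact T.ctx.q_ne T.memN T.notY T.sq h3
  obtain ⟨hgP, hgn'⟩ := T.InK_good hgK hgc (hq ▸ T.q_fix g) hgC
  have he : r⁻¹ * g ∈ C := by
    by_contra hn
    exact (T.InK_good (T.InK_mul (T.InK_inv (hK r hr)) hgK)
      (((show Commute r c₀ from hrfix.1).inv_left).mul_left hgc).eq
      (hq ▸ T.q_fix _) hn).2 (T.two_cosets hrP hgP hrn hgn')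
  have hsame : ∀ x ∈ C, cm r x = cm g x := fun x hx => by
    rw [show cm g x = r * ((r⁻¹ * g) * x * (r⁻¹ * g)⁻¹) * r⁻¹ * x⁻¹ by unfold cm; group,
      T.comm_C he hx, mul_inv_cancel_right]
    rfl
  refine T.gen hq hqc hrP hrn (Or.inl ((hsame y (T.ctx.N_le_C T.memN)).trans hgy))
    (fun x hx => hsame x hx ▸ T.cm_mod_C t x hx) ?_
  have hrrC : r * r ∈ C := by
    refine mem_centralizer_iff.2 fun n hn => (cm_eq_one_iff.1 ?_).symm
    rw [cm_mul_left]
    rcases hK r hr n hn with e | e <;> rw [e]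
    · group
    · rw [show r * (y * y) * r⁻¹ = y * y by rw [T.q_fix, mul_inv_cancel_right], ← pow_two,
        T.ctx.mod.exp _ T.q_mem.2]
  obtain ⟨d', hd', hdd⟩ := hsquare _ (hsq r hr) (mem_inf.2 ⟨R.mul_mem hr hr, hrrC⟩)
  exact ⟨d', hd'.2, 1, one_mem F, by rw [hdd, mul_one]⟩

end Two

end CfsgLib.PGroup.SelfCentEight
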