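import Cfsg.Agent.Lib.PGroup.SelfCentEight.Basic
import Cfsg.Agent.Lib.PGroup.NormalRankFour

/-!
# 2-groups acting on an elementary group of order eight
-/

set_option autoImplicit false
set_option linter.unusedSectionVars false
set_option linter.style.haveILetI false

open Subgroup

namespace CfsgLib.PGroup.SelfCentEight

open CfsgLib.PGroup.FourGen

variable {G : Type*} [Group G] [Finite G]

theorem eq_of_four (hG : IsPGroup 2 G) {T : Subgroup G} {a b : G} (hT : Nat.card T = 4)
    (h2 : ∀ t ∈ T, t ^ 2 = 1) (ha : a ∈ T) (hb : b ∈ T) (ha1 : a ≠ 1) (hba : b ≠ a) (hb1 : b ≠ 1)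
    {t : G} (ht : t ∈ T) : t = 1 ∨ t = a ∨ t = b ∨ t = a * b :=
  four_elems hT h2 ha hb ha1 hb1 hba ht

/-- The elementary abelian quotients of subgroups of the stabiliser have order at most four. -/
theorem relIndex_flag (hG : IsPGroup 2 G) {F : Subgroup G} (hF : F.Normal)
    (h2 : ∀ f ∈ F, f ^ 2 = 1) (h8 : Nat.card F = 8) {C : Subgroup G} [C.Normal]
    (hC : C = centralizer (F : Set G)) {R M : Subgroup G} (hsq : ∀ a ∈ R, a * a ∈ M) :
    (M.map (QuotientGroup.mk' C)).relIndex (R.map (QuotientGroup.mk' C)) ≤ 4 := by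
  classical
  haveI : Fact (Nat.Prime 2) := ⟨Nat.prime_two⟩
  haveI := hF
  set π := QuotientGroup.mk' C with hπ
  set q := (M.map π).relIndex (R.map π) with hq
  obtain ⟨T, hTn, hTF, hT⟩ := RankFour.exists_normal_card hG (A := F) 2 (by rw [h8]; norm_num)
  haveI := hTn
  have hT4 : Nat.card T = 4 := by rw [hT]; rfl
  obtain ⟨z, hz, hz1, hfix⟩ := FourGen.exists_central hG hTn (fun t ht => h2 t (hTF ht))
    (by omega) (by omega)
  obtain ⟨e, he, he1, hez⟩ := exists_third hT4 z
  have hT' : ∀ t ∈ T, t = 1 ∨ t = z ∨ t = e ∨ t = z * e := fun t ht =>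
    four_elems hT4 (fun t ht => h2 t (hTF ht)) hz he hz1 he1 hez ht
  obtain ⟨f, hf, hfT⟩ : ∃ f ∈ F, f ∉ T := by
    by_contra hno
    push Not at hno
    have := card_le_of_le (show F ≤ T from hno)
    omega
  -- `T` and `f` generate `F`
  have hgen : ∀ x ∈ F, x ∈ T ∨ f * x ∈ T := by
    intro x hx
    by_contra hno
    push Not at hno
    let Φ : Fin 3 × T → F := fun p =>
      ⟨(![1, f, x] p.1) * (p.2 : G), mul_mem (by
        rcases p.1 with ⟨i, hi⟩
        interval_cases i
        exacts [one_mem F, hf, hx]) (hTF p.2.2)⟩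
    have hfi : f⁻¹ = f := inv_eq_of_mul_eq_one_right (by rw [← pow_two]; exact h2 f hf)
    have hΦ : Function.Injective Φ := by
      rintro ⟨i, s⟩ ⟨j, t⟩ hh
      have h' : (![1, f, x] i) * (s : G) = (![1, f, x] j) * (t : G) := congrArg Subtype.val hh
      have key : (![1, f, x] j)⁻¹ * ![1, f, x] i ∈ T := by
        have : (![1, f, x] j)⁻¹ * ![1, f, x] i = (t : G) * (s : G)⁻¹ := by
          rw [eq_mul_inv_iff_mul_eq, mul_assoc, h', inv_mul_cancel_left]
        rw [this]; exact mul_mem t.2 (inv_mem s.2)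
      have hij : i = j := by
        fin_cases i <;> fin_cases j <;> simp [hfi] at key <;> first
          | rfl
          | exact absurd key hfT
          | exact absurd (inv_inv x ▸ inv_mem key : x ∈ T) hno.1
          | exact absurd key hno.1
          | exact absurd key hno.2
          | (exact absurd (by
              have h1 := inv_mem key
              rwa [mul_inv_rev, inv_inv, hfi] at h1 : f * x ∈ T) hno.2)
      subst hij
      exact Prod.ext rfl (Subtype.ext (mul_left_cancel h'))
    have := Nat.card_le_card_of_injective Φ hΦ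
    rw [Nat.card_prod, Nat.card_eq_fintype_card (α := Fin 3), Fintype.card_fin, hT4, h8] at this
    omega
  have hgen' : F ≤ closure ({z, e, f} : Set G) := by
    intro x hx
    have hTc : ∀ t ∈ T, t ∈ closure ({z, e, f} : Set G) := fun t ht => by
      rcases hT' t ht with rfl | rfl | rfl | rfl
      exacts [one_mem _, subset_closure (by simp), subset_closure (by simp),
        mul_mem (subset_closure (by simp)) (subset_closure (by simp))]
    rcases hgen x hx with h | h
    · exact hTc x h
    · rw [← inv_mul_cancel_left f x]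
      exact mul_mem (inv_mem (subset_closure (by simp))) (hTc _ h)
  set s := ({e, z * e} : Finset G) ×ˢ ({f, f * z, f * e, f * (z * e)} : Finset G) with hs
  set s' := s.filter fun p => ∃ r ∈ R, (r * e * r⁻¹, r * f * r⁻¹) = p with hs'
  have hmap : C.relIndex R ≤ s'.card := by
    refine relIndex_le_of_map (fun g => (g * e * g⁻¹, g * f * g⁻¹)) _ (fun r hr => ?_)
      fun a _ b _ h => hC ▸ mem_centralizer_of_gen hgen' fun n hn => ?_
    · refine Finset.mem_filter.2 ⟨Finset.mem_product.2 ⟨?_, ?_⟩, r, hr, rfl⟩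
      · rcases hT' _ (hTn.conj_mem e he r) with h | h | h | h
        · exact absurd (conj_eq_one_iff.1 h) he1
        · exact absurd (mul_left_cancel (mul_right_cancel (h.trans (hfix r).symm))) hez
        · rw [h]; simp
        · rw [h]; simp
      · rcases hgen _ (hF.conj_mem f hf r) with h | h
        · refine absurd ?_ hfT
          simpa [mul_assoc] using hTn.conj_mem _ h r⁻¹
        · have hfi : f⁻¹ = f := inv_eq_of_mul_eq_one_right (by rw [← pow_two]; exact h2 f hf)
          have e' : r * f * r⁻¹ = f * (f * (r * f * r⁻¹)) := by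
            rw [← mul_assoc, ← pow_two, h2 f hf, one_mul]
          rcases hT' _ h with h3 | h3 | h3 | h3 <;> rw [e', h3] <;> simp
    · rcases hn with rfl | rfl | rfl
      · rw [hfix, hfix]
      · exact congrArg Prod.fst h
      · exact congrArg Prod.snd h
  have hs8 : s.card ≤ 8 := by
    rw [hs, Finset.card_product]
    exact Nat.mul_le_mul Finset.card_le_two Finset.card_le_four
  have hqle : q ≤ C.relIndex R := by
    have h1 : C.relIndex R = Nat.card (R.map π) := by
      rw [← relIndex_bot_left (R.map π), ← relIndex_comap, MonoidHom.comap_bot, hπ, QuotientGroup.ker_mk']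
    rw [h1, hq]
    exact relIndex_le_card
  by_contra hc
  push Not at hc
  have hq8 : 8 ≤ q := by
    obtain ⟨k, hk⟩ := ((hG.to_quotient C).to_subgroup (R.map π)).index ((M.map π).subgroupOf (R.map π))
    have hk' : q = 2 ^ k := hk
    rw [hk'] at hc ⊢
    rcases Nat.lt_or_ge k 3 with h | h
    · interval_cases k <;> simp at hc
    · exact Nat.pow_le_pow_right two_pos h
  have hfull : s' = s := Finset.eq_of_subset_of_card_le (Finset.filter_subset _ _)
    (hs8.trans (hq8.trans (hqle.trans hmap)))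
  obtain ⟨a, ha, hab⟩ : ∃ a ∈ R, (a * e * a⁻¹, a * f * a⁻¹) = (z * e, f) :=
    (Finset.mem_filter.1 (hfull.symm ▸ by simp [hs] : (z * e, f) ∈ s')).2
  obtain ⟨b, hb, hbb⟩ : ∃ b ∈ R, (b * e * b⁻¹, b * f * b⁻¹) = (e, f * e) :=
    (Finset.mem_filter.1 (hfull.symm ▸ by simp [hs] : (e, f * e) ∈ s')).2
  simp only [Prod.mk.injEq] at hab hbb
  -- a commutator outside `C` lies in `M`
  have hz' : a * b * a⁻¹ * b⁻¹ ∉ C := fun hzC => by
    have h1 : (b * a) * f * (b * a)⁻¹ = f * e := by
      rw [show (b * a) * f * (b * a)⁻¹ = b * (a * f * a⁻¹) * b⁻¹ by group, hab.2, hbb.2]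
    have h3 : (a * b) * f * (a * b)⁻¹ = f * (z * e) := by
      rw [show (a * b) * f * (a * b)⁻¹ = a * (b * f * b⁻¹) * a⁻¹ by group, hbb.2,
        show a * (f * e) * a⁻¹ = a * f * a⁻¹ * (a * e * a⁻¹) by group, hab.2, hab.1]
    rw [hC] at hzC
    have h4 := mem_centralizer_iff.1 hzC _ (mul_mem hf (hTF he))
    rw [show (a * b) * f * (a * b)⁻¹ = a * b * a⁻¹ * b⁻¹ * ((b * a) * f * (b * a)⁻¹) *
      (a * b * a⁻¹ * b⁻¹)⁻¹ by group, h1, ← h4, mul_inv_cancel_right] at h3
    exact hz1 (mul_eq_right.1 (mul_left_cancel h3).symm)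
  have hM1 : 2 ≤ Nat.card (M.map π) := by
    refine Finite.one_lt_card_iff_nontrivial.2 ⟨⟨⟨π (a * b * a⁻¹ * b⁻¹),
      ⟨_, commutator_mem_of_sq hsq ha hb, rfl⟩⟩, 1, fun e' => hz' ?_⟩⟩
    exact (QuotientGroup.eq_one_iff _).1 (congrArg Subtype.val e')
  have h6 : Nat.card (R.map π) ≤ 8 := by
    have h1 : C.relIndex R = Nat.card (R.map π) := by
      rw [← relIndex_bot_left (R.map π), ← relIndex_comap, MonoidHom.comap_bot, hπ, QuotientGroup.ker_mk']
    exact h1 ▸ (hmap.trans ((Finset.card_filter_le _ _).trans hs8))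
  have h7 : q ≤ 4 := by
    by_cases hle : M.map π ≤ R.map π
    · have h8 := relIndex_mul_relIndex ⊥ (M.map π) (R.map π) bot_le hle
      rw [relIndex_bot_left, relIndex_bot_left, ← hq] at h8
      have := Nat.mul_le_mul_right q hM1
      omega
    · have hM2 : 2 ≤ Nat.card (M.map π ⊓ R.map π : Subgroup (G ⧸ C)) := by
        refine Finite.one_lt_card_iff_nontrivial.2 ⟨⟨⟨π (a * b * a⁻¹ * b⁻¹), mem_inf.2
          ⟨⟨_, commutator_mem_of_sq hsq ha hb, rfl⟩, ⟨_, R.mul_mem (R.mul_mem (R.mul_mem ha hb)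
            (R.inv_mem ha)) (R.inv_mem hb), rfl⟩⟩⟩, 1, fun e' => hz' ?_⟩⟩
        exact (QuotientGroup.eq_one_iff _).1 (congrArg Subtype.val e')
      have h8 := relIndex_mul_relIndex ⊥ (M.map π ⊓ R.map π) (R.map π) bot_le inf_le_right
      rw [relIndex_bot_left, relIndex_bot_left, inf_relIndex_right, ← hq] at h8
      have := Nat.mul_le_mul_right q hM2
      omega
  omega

end CfsgLib.PGroup.SelfCentEight
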