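import Cfsg.Agent.Lib.PGroup.SelfCentEight.EightBase
import Cfsg.Agent.Lib.PGroup.SelfCentEight.Flag

/-!
# The case `|A ∩ F| = 2`
-/

set_option autoImplicit false
set_option linter.unusedSectionVars false
set_option linter.style.haveILetI false

open Subgroup

namespace CfsgLib.PGroup.SelfCentEight

open CfsgLib.PGroup.FourGen

variable {G : Type*} [Group G] [Finite G]

namespace Ctx

variable {A F N : Subgroup G} (c : Ctx A F N)
include c

theorem exists_I (hI : Nat.card (A ⊓ F : Subgroup G) = 2) : ∃ z ∈ A ⊓ F, z ≠ 1 ∧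
    (∀ g, g * z = z * g) ∧ ∀ i ∈ A ⊓ F, i = 1 ∨ i = z := by
  obtain ⟨z, hz, hz1, hzc⟩ := c.mod.exists_central
  refine ⟨z, hz, hz1, hzc, fun i hi => ?_⟩
  by_contra hno
  push Not at hno
  have h3 : 2 < Nat.card (A ⊓ F : Subgroup G) := by
    haveI := Fintype.ofFinite (A ⊓ F : Subgroup G)
    rw [Nat.card_eq_fintype_card, Fintype.two_lt_card_iff]
    exact ⟨1, ⟨z, hz⟩, ⟨i, hi⟩, fun e => hz1 (congrArg Subtype.val e).symm,
      fun e => hno.1 (congrArg Subtype.val e).symm, fun e => hno.2 (congrArg Subtype.val e).symm⟩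
  omega

/-- Commutators of `F` with `A` lie in `A ∩ F`. -/
theorem cm_F_mem (hI : Nat.card (A ⊓ F : Subgroup G) = 2) {a f : G} (ha : a ∈ A) (haF : a ∉ F)
    (hf : f ∈ F) : cm a f ∈ A ⊓ F := by
  haveI := c.mod.normal
  obtain ⟨b, hb, hbF, habF⟩ := c.mod.exists_pair hI ha
  refine ⟨c.mod.mem_of_two ha hb haF hbF habF (c.mod.cm_fix ha hf).symm ?_
    (fun i hi => (c.mod.e_comm (cm_mem a hf) hi.2).eq), cm_mem a hf⟩
  by_contra hne
  -- two nontrivial values of `cm a` would give too large an image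
  let φ : F →* G := MonoidHom.mk' (fun d => cm a d) fun d e => by
    rw [Subgroup.coe_mul]; exact c.mod.cm_hom a d.2 e.2
  have hker : 4 ≤ Nat.card φ.ker := by
    rw [← c.mod.card_fix_eq ha haF (by rw [c.cardF]; norm_num)]
    exact Nat.card_le_card_of_injective (fun d : c.mod.fix a => (⟨⟨d.1, (c.mod.mem_fix.1 d.2).1⟩,
      cm_eq_one_iff.2 (c.mod.mem_fix.1 d.2).2.symm⟩ : φ.ker))
      fun d e he => Subtype.ext (congrArg (fun x : φ.ker => (x.1 : G)) he)
  have h2 : Nat.card φ.range ≤ 2 := by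
    have h3 := φ.ker.card_mul_index
    rw [index_ker, c.cardF] at h3
    have := Nat.mul_le_mul_right (Nat.card φ.range) hker
    omega
  have hbf : b * f * b⁻¹ ∈ F := Subgroup.Normal.conj_mem inferInstance f hf b
  have h4 : cm a (b * f * b⁻¹) = b * cm a f * b⁻¹ := by
    have hab := (c.mod.eight.comm ha hb).eq
    unfold cm
    calc a * (b * f * b⁻¹) * a⁻¹ * (b * f * b⁻¹)⁻¹
        = a * b * f * (a * b)⁻¹ * (b * f⁻¹ * b⁻¹) := by group
      _ = b * a * f * (b * a)⁻¹ * (b * f⁻¹ * b⁻¹) := by rw [hab]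
      _ = b * (a * f * a⁻¹ * f⁻¹) * b⁻¹ := by group
  have h5 : cm a f ≠ 1 := fun e => hne (by rw [e, one_mul, mul_one])
  have h6 : b * cm a f * b⁻¹ ≠ cm a f := fun e => hne (mul_inv_eq_iff_eq_mul.1 e).symm
  have h7 : 2 < Nat.card φ.range := by
    haveI := Fintype.ofFinite φ.range
    rw [Nat.card_eq_fintype_card, Fintype.two_lt_card_iff]
    refine ⟨⟨1, one_mem _⟩, ⟨_, ⟨⟨f, hf⟩, rfl⟩⟩, ⟨_, ⟨⟨_, hbf⟩, rfl⟩⟩, ?_, ?_, ?_⟩
    · exact fun e => h5 (congrArg Subtype.val e).symm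
    · refine fun e => h5 ?_
      have e' : (1 : G) = cm a (b * f * b⁻¹) := congrArg Subtype.val e
      rw [h4, eq_comm, conj_eq_one_iff] at e'
      exact e'
    · refine fun e => h6 ?_
      rw [← h4]
      exact (congrArg Subtype.val e).symm
  omega

/-- An element of `C(F)` with one commutator in `A ∩ F` and another in `F` lies in `F`. -/
theorem key (hI : Nat.card (A ⊓ F : Subgroup G) = 2) {a b x : G} (ha : a ∈ A) (hb : b ∈ A)
    (haF : a ∉ F) (hbF : b ∉ F) (habF : a * b ∉ F) (hx : x ∈ centralizer (F : Set G))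
    (hxa : cm a x ∈ A ⊓ F) (hxb : cm b x ∈ F) : x ∈ F := by
  haveI := c.mod.normal
  obtain ⟨z, hz, hz1, hzc, hIz⟩ := c.exists_I hI
  have hsurj : ∀ a' b', a' ∈ A → b' ∈ A → a' ∉ F → b' ∉ F → a' * b' ∉ F → ∀ v ∈ A ⊓ F,
      ∃ f ∈ F, a' * f = f * a' ∧ cm b' f = v := by
    intro a' b' ha' hb' ha'F hb'F hab'F v hv
    rcases hIz v hv with e | e <;> rw [e]
    · exact ⟨1, one_mem F, by simp, by simp [cm]⟩
    · obtain ⟨f, hf, hfI⟩ : ∃ f ∈ c.mod.fix a', f ∉ A ⊓ F := by
        by_contra hno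
        push Not at hno
        have h4 := card_le_of_le (show c.mod.fix a' ≤ A ⊓ F from hno)
        rw [c.mod.card_fix_eq ha' ha'F (by rw [c.cardF]; norm_num), hI] at h4
        omega
      obtain ⟨hfF, hfa⟩ := c.mod.mem_fix.1 hf
      refine ⟨f, hfF, hfa.symm, (hIz _ (c.cm_F_mem hI hb' hb'F hfF)).resolve_left fun e' => hfI ?_⟩
      exact ⟨c.mod.mem_of_two ha' hb' ha'F hb'F hab'F hfa (cm_eq_one_iff.1 e').symm
        (fun i hi => (c.mod.e_comm hfF hi.2).eq), hfF⟩
  obtain ⟨g, hg, -, hga⟩ := hsurj b a hb ha hbF haF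
    (by rwa [(c.mod.eight.comm hb ha).eq]) _ hxa
  set x₁ := g * x with hx₁
  have h1 : a * x₁ = x₁ * a := cm_eq_one_iff.1 (by
    rw [hx₁, cm_mul_right (c.mod.e_comm hg hxa.2), hga, ← pow_two, c.mod.exp _ hxa.2])
  have hwF : cm b x₁ ∈ F := by
    rw [hx₁, cm_mul_right (c.mod.e_comm hg hxb)]; exact mul_mem (cm_mem b hg) hxb
  have hwI : cm b x₁ ∈ A ⊓ F :=
    ⟨c.mod.mem_of_two ha hb haF hbF habF (mul_inv_eq_iff_eq_mul.1 (c.mod.comm_cm hb ha x₁ h1)).symm
      (c.mod.fix_cm_of_mem hb hwF).symm (fun i hi => (c.mod.e_comm hwF hi.2).eq), hwF⟩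
  obtain ⟨f, hf, hfa, hfb⟩ := hsurj a b ha hb haF hbF habF _ hwI
  set x₂ := f * x₁ with hx₂
  have hx₂X : x₂ ∈ centralizer (F : Set G) :=
    mul_mem (mem_centralizer_iff.2 fun d hd => (c.mod.e_comm hd hf).eq)
      (mul_mem (mem_centralizer_iff.2 fun d hd => (c.mod.e_comm hd hg).eq) hx)
  have hx₂A : x₂ ∈ A := c.mod.mem_of_two ha hb haF hbF habF
    (show x₂ * a = a * x₂ by rw [hx₂, mul_assoc, ← h1, ← mul_assoc, ← hfa, mul_assoc])
    (cm_eq_one_iff.1 (by rw [hx₂, cm_mul_right (c.mod.e_comm hf hwF), hfb, ← pow_two,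
      c.mod.exp _ hwF])).symm
    fun i hi => (mem_centralizer_iff.1 hx₂X i hi.2).symm
  have h3 := c.mod.mem_I_of_mem_X hx₂A hx₂X
  have : x = g⁻¹ * (f⁻¹ * x₂) := by rw [hx₂, hx₁]; group
  rw [this]
  exact mul_mem (inv_mem hg) (mul_mem (inv_mem hf) h3)

theorem key' (hI : Nat.card (A ⊓ F : Subgroup G) = 2) {a x : G} (ha : a ∈ A) (haF : a ∉ F)
    (hx : x ∈ centralizer (F : Set G)) (hxa : cm a x ∈ A ⊓ F) (hall : ∀ b ∈ A, cm b x ∈ F) :
    x ∈ F := by
  obtain ⟨b, hb, hbF, habF⟩ := c.mod.exists_pair hI ha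
  exact c.key hI ha hb haF hbF habF hx hxa (hall b hb)

/-- All squares of `N` coincide, and a fixed element of order four does not exist. -/
theorem exists_y_one (hI : Nat.card (A ⊓ F : Subgroup G) = 2) (hN : ¬ N ≤ F) :
    ∃ y ∈ N, y ∉ F ∧ c.SqOne y ∧ y * y ∈ A ⊓ F := by
  haveI := c.mod.normal
  haveI := c.max.normal
  obtain ⟨z, hz, hz1, hzc, hIz⟩ := c.exists_I hI
  have hNX : N ≤ centralizer (F : Set G) := fun n hn =>
    mem_centralizer_iff.2 fun f hf => c.max.comm f (c.le hf) n hn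
  have hcm2 : ∀ g n, n ∈ N → cm g n * cm g n = cm g (n * n) := fun g n hn =>
    (cm_mul_right (c.max.comm n hn _ (cm_mem g hn))).symm
  have hsqI : ∀ n ∈ N, n * n ∈ A ⊓ F := by
    intro n hn
    by_contra hq
    have hqF := c.sq_mem hn
    obtain ⟨a, ha, hane⟩ : ∃ a ∈ A, a * (n * n) ≠ n * n * a := by
      by_contra hno
      push Not at hno
      exact hq (c.mod.mem_I hqF hno)
    have haF : a ∉ F := fun h => hane (c.mod.e_comm h hqF).eq
    obtain ⟨b₀, hb₀, hb₀F, hab₀F⟩ := c.mod.exists_pair hI ha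
    obtain ⟨b, hb, hbF, habF, hbq⟩ : ∃ b ∈ A, b ∉ F ∧ a * b ∉ F ∧ b * (n * n) = n * n * b := by
      by_cases h0 : b₀ * (n * n) = n * n * b₀
      · exact ⟨b₀, hb₀, hb₀F, hab₀F, h0⟩
      · refine ⟨a * b₀, mul_mem ha hb₀, hab₀F, ?_, ?_⟩
        · rw [← mul_assoc, ← pow_two, c.mod.eight.exp a ha, one_mul]; exact hb₀F
        · have e1 : a * (n * n) * a⁻¹ = z * (n * n) := by
            rw [conj_eq_cm]
            rcases hIz _ (c.cm_F_mem hI ha haF hqF) with e | e
            · exact absurd (cm_eq_one_iff.1 e) hane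
            · rw [e]
          have e2 : b₀ * (n * n) * b₀⁻¹ = z * (n * n) := by
            rw [conj_eq_cm]
            rcases hIz _ (c.cm_F_mem hI hb₀ hb₀F hqF) with e | e
            · exact absurd (cm_eq_one_iff.1 e) h0
            · rw [e]
          refine mul_inv_eq_iff_eq_mul.1 ?_
          rw [show a * b₀ * (n * n) * (a * b₀)⁻¹ = a * (b₀ * (n * n) * b₀⁻¹) * a⁻¹ by group, e2,
            show a * (z * (n * n)) * a⁻¹ = (a * z) * (n * n) * a⁻¹ by group, hzc a,
            show z * a * (n * n) * a⁻¹ = z * (a * (n * n) * a⁻¹) by group, e1, ← mul_assoc z z,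
            ← pow_two z, c.mod.exp z hz.2, one_mul]
    have hvF : cm b n ∈ F := c.cm_mem_F hn hbq
    set y := cm a n with hy
    have hyN : y ∈ N := cm_mem a hn
    have hy2 : y * y = z := by
      rw [hy, hcm2 a n hn]
      exact (hIz _ (c.cm_F_mem hI ha haF hqF)).resolve_left fun e => hane (cm_eq_one_iff.1 e)
    have hyF : y ∉ F := fun h => hz1 (by rw [← hy2, ← pow_two]; exact c.mod.exp y h)
    have hb_y : cm b y ∈ A ⊓ F := by
      rw [hy, c.cm_comm hn (c.mod.eight.comm hb ha).eq]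
      exact c.cm_F_mem hI ha haF hvF
    exact hyF (c.key hI hb ha hbF haF (by rwa [(c.mod.eight.comm hb ha).eq]) (hNX hyN) hb_y
      (c.cm_mem_F hyN (by rw [hy2]; exact hzc a)))
  obtain ⟨y, hy, hyF⟩ := SetLike.not_le_iff_exists.1 hN
  refine ⟨y, hy, hyF, fun n hn => ?_, hsqI y hy⟩
  by_cases hnF : n ∈ F
  · exact Or.inl hnF
  · refine Or.inr (c.omega (mul_mem (inv_mem hy) hn) ?_)
    have e : ∀ m ∈ N, m ∉ F → m * m = z := fun m hm hmF =>
      (hIz _ (hsqI m hm)).resolve_left fun h => hmF (c.omega hm (by rw [pow_two]; exact h))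
    rw [Commute.mul_pow (c.max.comm _ (inv_mem hy) _ hn), inv_pow, pow_two, pow_two, e y hy hyF,
      e n hn hnF, inv_mul_cancel]

theorem relIndex_le_one (hI : Nat.card (A ⊓ F : Subgroup G) = 2) {y : G} (hy : y ∈ N) (hyF : y ∉ F)
    (hs : c.SqOne y) (hq : y * y ∈ A ⊓ F) {R M : Subgroup G} (hM : M ≤ R)
    (hsq : ∀ a ∈ R, a * a ∈ M) : M.relIndex R ≤ 16 := by
  haveI := c.mod.normal
  haveI := c.max.normal
  haveI := c.C_normal
  haveI := c.X_normal
  set C := centralizer (N : Set G) with hC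
  obtain ⟨z, hz, hz1, hzc, hIz⟩ := c.exists_I hI
  have hqz : y * y = z := (hIz _ hq).resolve_left (c.q_ne hy hyF hs)
  have hNX : N ≤ centralizer (F : Set G) := fun n hn =>
    mem_centralizer_iff.2 fun f hf => c.max.comm f (c.le hf) n hn
  -- no fixed element of order four
  have hfree : ∀ a ∈ A, a ∉ F → ∀ n ∈ N, n ∉ F → cm a n ∉ A ⊓ F := by
    intro a ha haF n hn hnF h
    refine hnF (c.key' hI ha haF (hNX hn) h fun b _ => c.cm_mem_F hn ?_)
    rw [c.sq_eq hy hyF hs hn hnF]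
    exact c.q_central hy hyF hs b
  obtain ⟨a, ha, haF⟩ := c.mod.exists_outside
  have hCN : C ≤ N := by
    by_contra h
    obtain ⟨n, hn, hnF, hg⟩ := c.exists_rigid hy hyF hs h
    refine hfree a ha haF n hn hnF ?_
    rcases hg a with e | e <;> rw [e]
    exacts [one_mem _, hq]
  -- commutators with `A` of a fixed element
  have hyA : ∀ b ∈ A, cm b y ∈ F := fun b _ => c.cm_mem_F hy (c.q_central hy hyF hs b)
  have hXfix : ∀ x ∈ centralizer (F : Set G), cm x y ∈ F := fun x _ =>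
    c.cm_mem_F hy (c.q_central hy hyF hs x)
  have hactF : ∀ x ∈ centralizer (F : Set G), ∀ n ∈ N, ∀ f ∈ F, x * (n * f) * x⁻¹ =
      x * n * x⁻¹ * f := fun x hx n _ f hf => by
    rw [show x * (n * f) * x⁻¹ = x * n * x⁻¹ * (x * f * x⁻¹) by group,
      (mem_centralizer_iff.1 hx f hf).symm, mul_inv_cancel_right]
  have hmemC : ∀ x ∈ centralizer (F : Set G), cm x y = 1 → x ∈ C := fun x hx he =>
    mem_centralizer_iff.2 fun n hn => by
      rcases hs n hn with h | h
      · exact mem_centralizer_iff.1 hx n h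
      · obtain ⟨f, hf, rfl⟩ : ∃ f ∈ F, n = y * f := ⟨_, h, (mul_inv_cancel_left y n).symm⟩
        rw [mul_assoc, mem_centralizer_iff.1 hx f hf, ← mul_assoc, ← (cm_eq_one_iff.1 he), mul_assoc]
  have hcmC : ∀ b ∈ A, ∀ x ∈ centralizer (F : Set G), b * cm x y = cm x y * b →
      cm b x ∈ C := by
    intro b hb x hx hfix
    have hcX : cm b x ∈ centralizer (F : Set G) := cm_mem b hx
    refine hmemC _ hcX (cm_eq_one_iff.2 (mul_inv_eq_iff_eq_mul.1 ?_))
    set f := cm x y with hf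
    have hfF : f ∈ F := hXfix x hx
    have hxy : x * y * x⁻¹ = f * y := conj_eq_cm x y
    have hxy' : x⁻¹ * y * x = f * y := by
      have hff : f * f = 1 := by rw [← pow_two]; exact c.mod.exp f hfF
      have h1 : x * (f * y) * x⁻¹ = y := by
        rw [show x * (f * y) * x⁻¹ = x * f * x⁻¹ * (x * y * x⁻¹) by group, hxy,
          (mem_centralizer_iff.1 hx f hfF).symm, mul_inv_cancel_right, ← mul_assoc, hff, one_mul]
      calc x⁻¹ * y * x = x⁻¹ * (x * (f * y) * x⁻¹) * x := by rw [h1]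
        _ = f * y := by group
    set u := b⁻¹ * y * b with hu
    have huN : u ∈ N := by
      simpa [hu] using (inferInstance : N.Normal).conj_mem y hy b⁻¹
    set g₁ := cm b y with hg₁
    have hg₁F : g₁ ∈ F := hyA b hb
    have hbinv : b⁻¹ = b := inv_eq_self (c.mod.eight.exp b hb)
    have hu' : u = g₁ * y := by
      rw [hu, hg₁, ← conj_eq_cm b y, hbinv]
    calc cm b x * y * (cm b x)⁻¹ = b * (x * (b⁻¹ * (x⁻¹ * y * x) * b) * x⁻¹) * b⁻¹ := by
          unfold cm; group
      _ = b * (x * (b⁻¹ * f * b * u) * x⁻¹) * b⁻¹ := by rw [hxy', hu]; group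
      _ = b * (x * (f * g₁ * y) * x⁻¹) * b⁻¹ := by
          rw [hu', show b⁻¹ * f * b = f by rw [mul_assoc, ← hfix, inv_mul_cancel_left]]
          group
      _ = b * (f * g₁ * (x * y * x⁻¹)) * b⁻¹ := by
          rw [show x * (f * g₁ * y) * x⁻¹ = x * (f * g₁) * x⁻¹ * (x * y * x⁻¹) by group,
            (mem_centralizer_iff.1 hx _ (mul_mem hfF hg₁F)).symm, mul_inv_cancel_right]
      _ = b * (g₁ * y) * b⁻¹ := by
          rw [hxy, (c.mod.e_comm hfF hg₁F).eq, show g₁ * f * (f * y) = g₁ * (f * f) * y by group,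
            ← pow_two, c.mod.exp f hfF, mul_one]
      _ = y := by rw [← hu', hu]; group
  have hXC : centralizer (F : Set G) ≤ C := by
    -- the shift by an element fixed by `A` does not occur
    have hfixed : ∀ x ∈ centralizer (F : Set G), cm x y ∈ A ⊓ F → x ∈ C := by
      intro x hx hfI
      have hcm : ∀ b ∈ A, cm b x ∈ F := by
        intro b hb
        have hvN : cm b x ∈ N := hCN (hcmC b hb x hx (c.mod.eight.comm hb hfI.1).eq)
        by_contra hvF
        have hbF : b ∉ F := fun h => hvF (by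
          rw [show cm b x = 1 from cm_eq_one_iff.2 (mem_centralizer_iff.1 hx b h)]
          exact one_mem F)
        refine hfree b hb hbF _ hvN hvF ?_
        have hbb : b * b = 1 := by rw [← pow_two]; exact c.mod.eight.exp b hb
        have e : b * cm b x * b⁻¹ = (cm b x)⁻¹ := by
          calc b * cm b x * b⁻¹ = b * b * x * (b * b)⁻¹ * (b * x⁻¹ * b⁻¹) := by unfold cm; group
            _ = (cm b x)⁻¹ := by rw [hbb]; unfold cm; group
        rw [show cm b (cm b x) = b * cm b x * b⁻¹ * (cm b x)⁻¹ from rfl, e, ← mul_inv_rev,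
          c.sq_eq hy hyF hs hvN hvF]
        exact inv_mem hq
      have hva : a * cm a x = cm a x * a := c.mod.fix_cm_of_mem ha (hcm a ha)
      by_cases hvI : cm a x ∈ A ⊓ F
      · exact (c.N_le_C) (c.le (c.key' hI ha haF hx hvI hcm))
      · have hw : cm a y ∉ A ⊓ F := hfree a ha haF y hy hyF
        have hprod : cm a (x * y) = cm a x * cm a y := cm_mul_right (mem_centralizer_iff.1 hx _ (hyA a ha)).symm
        have hfix2 : cm a x ∈ c.mod.fix a ∧ cm a y ∈ c.mod.fix a :=
          ⟨c.mod.mem_fix.2 ⟨hcm a ha, hva.symm⟩,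
            c.mod.mem_fix.2 ⟨hyA a ha, (c.mod.fix_cm_of_mem ha (hyA a ha)).symm⟩⟩
        have hmem : cm a x * cm a y ∈ A ⊓ F := by
          by_contra hno
          have h4 := c.mod.card_fix_eq ha haF (by rw [c.cardF]; norm_num)
          have hlist := four_elems h4 (fun e he => c.mod.exp e (c.mod.mem_fix.1 he).1)
            (a := cm a x) (b := cm a y) hfix2.1 hfix2.2
            (fun e => hvI (e ▸ one_mem _)) (fun e => hw (e ▸ one_mem _))
            (fun e => hno (by rw [e, ← pow_two, c.mod.exp _ (hcm a ha)]; exact one_mem _))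
            (c.mod.mem_fix.2 ⟨hz.2, (hzc a).symm⟩ : z ∈ c.mod.fix a)
          rcases hlist with e | e | e | e
          · exact hz1 e
          · exact hvI (e ▸ hz)
          · exact hw (e ▸ hz)
          · exact hno (e ▸ hz)
        have hxyX : x * y ∈ centralizer (F : Set G) := mul_mem hx (hNX hy)
        have h5 := c.key' hI ha haF hxyX (hprod ▸ hmem) fun b hb => by
          rw [cm_mul_right (mem_centralizer_iff.1 hx _ (hyA b hb)).symm]
          exact mul_mem (hcm b hb) (hyA b hb)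
        have : x = x * y * y⁻¹ := by group
        rw [this]
        exact mul_mem (c.N_le_C (c.le h5)) (inv_mem (c.N_le_C hy))
    intro x hx
    by_contra hxC
    -- a commutator with `A` shifts by a fixed element
    have hf : cm x y ∈ F := hXfix x hx
    have hfI : cm x y ∉ A ⊓ F := fun h => hxC (hfixed x hx h)
    obtain ⟨b, hb, hbne⟩ : ∃ b ∈ A, b * cm x y ≠ cm x y * b := by
      by_contra hno
      push Not at hno
      exact hfI (c.mod.mem_I hf hno)
    have hbF : b ∉ F := fun h => hbne (c.mod.e_comm h hf).eq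
    have hgX : b * x * b⁻¹ ∈ centralizer (F : Set G) := Subgroup.Normal.conj_mem inferInstance x hx b
    -- the shift of the conjugate
    have h1 : cm (b * x * b⁻¹) y = b * cm x y * b⁻¹ := by
      set u := b⁻¹ * y * b with hu
      have huN : u ∈ N := by simpa [hu] using (inferInstance : N.Normal).conj_mem y hy b⁻¹
      have h2 : x * u * x⁻¹ = cm x y * u := by
        rcases hs u huN with h | h
        · exfalso
          apply hyF
          have := (inferInstance : F.Normal).conj_mem _ h b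
          simpa [hu, mul_assoc] using this
        · obtain ⟨f, hf', rfl'⟩ : ∃ f ∈ F, u = y * f := ⟨_, h, (mul_inv_cancel_left y u).symm⟩
          rw [rfl', hactF x hx y hy f hf', conj_eq_cm, mul_assoc]
      calc cm (b * x * b⁻¹) y = b * (x * u * x⁻¹) * b⁻¹ * y⁻¹ := by rw [hu]; unfold cm; group
        _ = b * cm x y * b⁻¹ := by rw [h2, hu]; group
    set x' := b * x * b⁻¹ * x⁻¹ with hx'
    have hx'X : x' ∈ centralizer (F : Set G) := mul_mem hgX (inv_mem hx)
    have h3 : cm x' y = b * cm x y * b⁻¹ * (cm x y)⁻¹ := by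
      have hinv : x⁻¹ * y * x = cm x y * y := by
        have hff : cm x y * cm x y = 1 := by rw [← pow_two]; exact c.mod.exp _ hf
        have h4 : x * (cm x y * y) * x⁻¹ = y := by
          rw [show x * (cm x y * y) * x⁻¹ = x * cm x y * x⁻¹ * (x * y * x⁻¹) by group,
            conj_eq_cm x y, (mem_centralizer_iff.1 hx _ hf).symm, mul_inv_cancel_right,
            ← mul_assoc, hff, one_mul]
        calc x⁻¹ * y * x = x⁻¹ * (x * (cm x y * y) * x⁻¹) * x := by rw [h4]
          _ = cm x y * y := by group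
      calc cm x' y = b * x * b⁻¹ * (x⁻¹ * y * x) * (b * x * b⁻¹)⁻¹ * y⁻¹ := by
            rw [hx']; unfold cm; group
        _ = b * x * b⁻¹ * cm x y * (b * x * b⁻¹)⁻¹ * cm (b * x * b⁻¹) y := by
            rw [hinv]; unfold cm; group
        _ = cm x y * (b * cm x y * b⁻¹) := by
            rw [h1, (mem_centralizer_iff.1 hgX _ hf).symm, mul_inv_cancel_right]
        _ = b * cm x y * b⁻¹ * (cm x y)⁻¹ := by
            rw [inv_eq_self (c.mod.exp _ hf),
              (c.mod.e_comm hf (Subgroup.Normal.conj_mem inferInstance _ hf b)).eq]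
    have h4 : cm x' y ∈ A ⊓ F := h3 ▸ c.cm_F_mem hI hb hbF hf
    have h5 := hfixed x' hx'X h4
    have h6 : cm x' y = 1 := cm_eq_one_iff.2 (mem_centralizer_iff.1 h5 y hy).symm
    rw [h3] at h6
    exact hbne (cm_eq_one_iff.1 h6)
  set π := QuotientGroup.mk' C with hπ
  set q := (M.map π).relIndex (R.map π) with hqdef
  have hmain : M.relIndex R ≤ q * M.relIndex (R ⊓ C) := relIndex_le_map_mul hM
  have hCX : C = centralizer (F : Set G) := le_antisymm c.C_le_X hXC
  have hq4 : q ≤ 4 := relIndex_flag c.two c.mod.normal c.mod.exp c.cardF hCX hsq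
  rcases Nat.lt_or_ge (M.relIndex (R ⊓ C)) 5 with hi | hi
  · have := Nat.mul_le_mul hq4 (Nat.le_of_lt_succ hi)
    omega
  obtain ⟨hFR, hsquare⟩ := c.squares_of_large hy hyF hs hsq hi
  have hRC : R ≤ C := by
    intro r hr
    by_contra hrC
    obtain ⟨f₁, hf₁, hne⟩ : ∃ f ∈ F, r * f ≠ f * r := by
      by_contra hno
      push Not at hno
      exact hrC (hXC (mem_centralizer_iff.2 fun f hf => (hno f hf).symm))
    have hmoveF : ∀ f ∈ F, cm r f = 1 ∨ (cm r f = z ∧ ∃ d ∈ R ⊓ C, cm r f = d * d) := by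
      intro f hf
      obtain ⟨d, hd, hdd⟩ := hsquare (cm r f) (commutator_mem_of_sq hsq hr (hFR hf))
        (mem_inf.2 ⟨hFR (cm_mem r hf), c.N_le_C (c.le (cm_mem r hf))⟩)
      rcases c.sq_mem_F hy hyF hs hd.2 (hdd ▸ cm_mem r hf) with e | e
      · exact Or.inl (hdd.trans e)
      · exact Or.inr ⟨(hdd.trans e).trans hqz, d, hd, hdd⟩
    obtain ⟨hv, d, hd, hdd⟩ := (hmoveF f₁ hf₁).resolve_left fun e => hne (cm_eq_one_iff.1 e)
    have hdF : d ∉ F := fun h => hz1 (by rw [← hv, hdd, ← pow_two]; exact c.mod.exp d h)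
    have hdN : d ∈ N := hCN hd.2
    -- an element of `A` acting in the same way on `F`
    obtain ⟨f₀, hf₀, hf₀r⟩ : ∃ f₀ ∈ F, f₀ ∉ A ⊓ F ∧ r * f₀ = f₀ * r := by
      obtain ⟨g, hgF, hgI, hgf⟩ : ∃ g ∈ F, g ∉ A ⊓ F ∧ g * f₁ ∉ A ⊓ F := by
        by_contra hno
        push Not at hno
        let Φ : Bool × (A ⊓ F : Subgroup G) → F := fun p =>
          ⟨(p.2 : G) * (if p.1 then f₁⁻¹ else 1), mul_mem p.2.2.2
            (by split_ifs; exacts [inv_mem hf₁, one_mem F])⟩
        have hΦ : Function.Surjective Φ := fun g => by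
          by_cases hg : (g : G) ∈ A ⊓ F
          · exact ⟨(false, ⟨g, hg⟩), Subtype.ext (by simp [Φ])⟩
          · exact ⟨(true, ⟨_, hno g g.2 hg⟩), Subtype.ext (by simp [Φ])⟩
        have := Nat.card_le_card_of_surjective Φ hΦ
        rw [Nat.card_prod, Nat.card_eq_fintype_card (α := Bool), Fintype.card_bool, hI, c.cardF] at this
        omega
      rcases hmoveF g hgF with e | ⟨e, -⟩
      · exact ⟨g, hgF, hgI, cm_eq_one_iff.1 e⟩
      · refine ⟨g * f₁, mul_mem hgF hf₁, hgf, cm_eq_one_iff.1 ?_⟩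
        rw [c.mod.cm_hom r hgF hf₁, e, hv, ← pow_two, c.mod.exp z hz.2]
    obtain ⟨b, hb, hbF, hbf₀⟩ : ∃ b ∈ A, b ∉ F ∧ b * f₀ = f₀ * b := by
      obtain ⟨b₀, hb₀, hb₀F, hab₀F⟩ := c.mod.exists_pair hI ha
      by_cases h0 : a * f₀ = f₀ * a
      · exact ⟨a, ha, haF, h0⟩
      by_cases h1 : b₀ * f₀ = f₀ * b₀
      · exact ⟨b₀, hb₀, hb₀F, h1⟩
      refine ⟨a * b₀, mul_mem ha hb₀, hab₀F, mul_inv_eq_iff_eq_mul.1 ?_⟩
      have e1 : a * f₀ * a⁻¹ = z * f₀ := by
        rw [conj_eq_cm, (hIz _ (c.cm_F_mem hI ha haF hf₀)).resolve_left fun e => h0 (cm_eq_one_iff.1 e)]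
      have e2 : b₀ * f₀ * b₀⁻¹ = z * f₀ := by
        rw [conj_eq_cm,
          (hIz _ (c.cm_F_mem hI hb₀ hb₀F hf₀)).resolve_left fun e => h1 (cm_eq_one_iff.1 e)]
      rw [show a * b₀ * f₀ * (a * b₀)⁻¹ = a * (b₀ * f₀ * b₀⁻¹) * a⁻¹ by group, e2,
        show a * (z * f₀) * a⁻¹ = (a * z) * f₀ * a⁻¹ by group, hzc a,
        show z * a * f₀ * a⁻¹ = z * (a * f₀ * a⁻¹) by group, e1, ← mul_assoc z z,
        ← pow_two z, c.mod.exp z hz.2, one_mul]
    -- the fixed points of `b` in `F`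
    have hT : ∀ f ∈ c.mod.fix b, r * f = f * r := by
      intro f hf
      have h4 := c.mod.card_fix_eq hb hbF (by rw [c.cardF]; norm_num)
      rcases four_elems h4 (fun e he => c.mod.exp e (c.mod.mem_fix.1 he).1) (a := z) (b := f₀)
        (c.mod.mem_fix.2 ⟨hz.2, (hzc b).symm⟩) (c.mod.mem_fix.2 ⟨hf₀, hbf₀.symm⟩)
        hz1 (fun e => hf₀r.1 (e ▸ one_mem _)) (fun e => hf₀r.1 (e ▸ hz)) hf with rfl | rfl | rfl | rfl
      · rw [one_mul, mul_one]
      · exact hzc r
      · exact hf₀r.2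
      · rw [← mul_assoc, hzc r, mul_assoc, hf₀r.2, mul_assoc]
    have hbr : b⁻¹ * r ∈ centralizer (F : Set G) := by
      refine mem_centralizer_iff.2 fun f hf => ?_
      have key : r * f * r⁻¹ = b * f * b⁻¹ := by
        rw [conj_eq_cm, conj_eq_cm]
        congr 1
        by_cases hfb : f ∈ c.mod.fix b
        · rw [cm_eq_one_iff.2 (hT f hfb), cm_eq_one_iff.2 (c.mod.mem_fix.1 hfb).2.symm]
        · have hb1 : cm b f = z := (hIz _ (c.cm_F_mem hI hb hbF hf)).resolve_left fun e =>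
            hfb (c.mod.mem_fix.2 ⟨hf, (cm_eq_one_iff.1 e).symm⟩)
          rw [hb1]
          refine ((hmoveF f hf).resolve_left fun e => ?_).1
          -- then `r` would centralise `F`
          have hrf : r * f = f * r := cm_eq_one_iff.1 e
          refine hne (mem_centralizer_singleton_iff.1 ?_).symm
          let K := F ⊓ centralizer ({r} : Set G)
          have hK : K = F := by
            refine eq_of_le_of_card_ge inf_le_left ?_
            have hlt : c.mod.fix b < K := by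
              refine lt_of_le_of_ne (fun g hg => mem_inf.2 ⟨(c.mod.mem_fix.1 hg).1,
                mem_centralizer_singleton_iff.2 (hT g hg).symm⟩) fun e' => hfb ?_
              rw [e']
              exact mem_inf.2 ⟨hf, mem_centralizer_singleton_iff.2 hrf.symm⟩
            have h4 := c.mod.card_fix_eq hb hbF (by rw [c.cardF]; norm_num)
            obtain ⟨m, hm⟩ := card_dvd_of_le hlt.le
            have h5 : Nat.card (c.mod.fix b) ≠ Nat.card K := fun e' =>
              hlt.ne (eq_of_le_of_card_ge hlt.le e'.ge)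
            have h6 : 0 < Nat.card K := Nat.card_pos
            rw [h4] at hm h5
            rw [c.cardF, hm]
            rcases m with _ | _ | m <;> omega
          exact ((hK.ge hf₁ : f₁ ∈ K) : f₁ ∈ F ⊓ centralizer ({r} : Set G)).2
      calc f * (b⁻¹ * r) = b⁻¹ * (b * f * b⁻¹) * r := by group
        _ = b⁻¹ * (r * f * r⁻¹) * r := by rw [key]
        _ = b⁻¹ * r * f := by group
    -- so `r` and `b` agree on `N`
    have hsame : r * d * r⁻¹ = b * d * b⁻¹ := by
      have h1 := mem_centralizer_iff.1 (hXC hbr) d hdN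
      calc r * d * r⁻¹ = b * (b⁻¹ * r * d) * r⁻¹ := by group
        _ = b * (d * (b⁻¹ * r)) * r⁻¹ := by rw [← h1]
        _ = b * d * b⁻¹ := by group
    have hcmeq : cm r d = cm b d := by unfold cm; rw [hsame]
    obtain ⟨e₂, he₂, hee⟩ := hsquare (cm r d) (commutator_mem_of_sq hsq hr hd.1)
      (mem_inf.2 ⟨R.mul_mem (R.mul_mem (R.mul_mem hr hd.1) (R.inv_mem hr)) (R.inv_mem hd.1),
        cm_mem r hd.2⟩)
    refine hfree b hb hbF d hdN hdF (hcmeq ▸ hee.symm ▸ ?_)
    rcases c.sq_cases hy hyF hs (hCN he₂.2) with e | e <;> rw [e]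
    exacts [one_mem _, hq]
  have hq1 : q = 1 := by
    rw [hqdef, relIndex_eq_one]
    rintro _ ⟨r, hr, rfl⟩
    rw [show π r = 1 from (QuotientGroup.eq_one_iff _).2 (hRC hr)]
    exact one_mem _
  have h8 : M.relIndex (R ⊓ C) ≤ 8 := c.cardF ▸ relIndex_le_omega (F := R ⊓ C) c.two
    (fun x hx h4 w hw => (c.structure_C hy hyF hs).1 x hx.2 w hw.2) (fun x hx => hsq x hx.1)
    (fun x hx h2 => c.mem_F hx.2 h2)
  have := Nat.mul_le_mul hq1.le h8
  omega

end Ctx

end CfsgLib.PGroup.SelfCentEight
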