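import Cfsg.Agent.Lib.PGroup.SelfCentEight.EightBase

/-!
# The case `|A ∩ F| = 4`
-/

set_option autoImplicit false
set_option linter.unusedSectionVars false
set_option linter.style.haveILetI false

open Subgroup

namespace CfsgLib.PGroup.SelfCentEight

open CfsgLib.PGroup.FourGen

variable {G : Type*} [Group G]

theorem mul_mem_of_cm {a x : G} {S : Subgroup G} (h : a * x * a⁻¹ ∈ S) (hx : x ∈ S) :
    cm a x ∈ S := mul_mem h (inv_mem hx)

variable [Finite G]

/-- The data in the case `|A ∩ F| = 4`. -/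
structure Two (A F N : Subgroup G) (a c₀ y : G) : Prop where
  ctx : Ctx A F N
  four : Nat.card (A ⊓ F : Subgroup G) = 4
  memA : a ∈ A
  notF : a ∉ F
  mem0 : c₀ ∈ A ⊓ F
  ne0 : c₀ ≠ 1
  cases0 : ∀ f ∈ F, cm a f = 1 ∨ cm a f = c₀
  reach0 : ∃ f ∈ F, cm a f = c₀
  memN : y ∈ N
  notY : y ∉ F
  sq : ctx.SqOne y
  norm : y * y = c₀ ∨ cm a y = y * y

namespace Ctx

variable {A F N : Subgroup G} (c : Ctx A F N)
include c

theorem mem_fix_four (hI : Nat.card (A ⊓ F : Subgroup G) = 4) {a x : G} (ha : a ∈ A) (haF : a ∉ F)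
    (hx : x ∈ centralizer (F : Set G)) (hxa : a * x = x * a) : x ∈ A ⊓ F := by
  have hxA : x ∈ A := c.mod.mem_of_four hI ha haF hxa.symm fun i hi =>
    (mem_centralizer_iff.1 hx i hi.2).symm
  exact ⟨hxA, c.mod.mem_I_of_mem_X hxA hx⟩

theorem free_four (hI : Nat.card (A ⊓ F : Subgroup G) = 4) {a : G} (ha : a ∈ A) (haF : a ∉ F)
    {n : G} (hn : n ∈ N) (hnF : n ∉ F) {f : G} (hf : f ∈ F) : cm a n ≠ cm a f := fun e => by
  haveI := c.mod.normal
  have h1 : cm a (f * n) = 1 := by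
    rw [cm_mul_right (x := f) (y := n), e, ← pow_two, c.mod.exp _ (cm_mem a hf)]
    rw [e]
    exact c.mod.e_comm hf (cm_mem a hf)
  have h2 := c.mem_fix_four hI ha haF (x := f * n) (mem_centralizer_iff.2 fun g hg =>
    c.max.comm g (c.le hg) _ (mul_mem (c.le hf) hn)) (cm_eq_one_iff.1 h1)
  exact hnF (by simpa using mul_mem (inv_mem hf) h2.2)

theorem cm_N_four (hI : Nat.card (A ⊓ F : Subgroup G) = 4) {a : G} (ha : a ∈ A) (haF : a ∉ F)
    {n : G} (hn : n ∈ N) : cm a n ∈ A ⊓ F := by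
  haveI := c.max.normal
  have hN' : a * n * a⁻¹ ∈ N := Subgroup.Normal.conj_mem inferInstance n hn a
  have ha1 : a * a = 1 := by rw [← pow_two]; exact c.mod.eight.exp a ha
  have hX : ∀ m ∈ N, m ∈ centralizer (F : Set G) := fun m hm =>
    mem_centralizer_iff.2 fun f hf => c.max.comm f (c.le hf) m hm
  have hu : a * (n * (a * n * a⁻¹)) = n * (a * n * a⁻¹) * a := by
    rw [← mul_inv_eq_iff_eq_mul]
    calc a * (n * (a * n * a⁻¹)) * a⁻¹ = a * n * a⁻¹ * (a * a * n * (a * a)⁻¹) := by group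
      _ = a * n * a⁻¹ * n := by rw [ha1]; group
      _ = n * (a * n * a⁻¹) := c.max.comm _ hN' _ hn
  have hu' := c.mem_fix_four hI ha haF (hX _ (mul_mem hn hN')) hu
  set u := n * (a * n * a⁻¹) with hudef
  have hsq : a * (n * n) = n * n * a := by
    rw [← mul_inv_eq_iff_eq_mul]
    have h4 : n * n * (n * n) = 1 := by
      rw [← pow_two, ← pow_two, ← pow_mul]; exact c.max.exp n hn
    calc a * (n * n) * a⁻¹ = (n⁻¹ * u) * (n⁻¹ * u) := by rw [hudef]; group
      _ = n⁻¹ * n⁻¹ * (u * u) := Commute.mul_mul_mul_comm (c.max.comm _ (c.le hu'.2) _ (inv_mem hn)) _ _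
      _ = n * n := by
        rw [← pow_two u, c.mod.exp u hu'.2, mul_one, ← mul_inv_rev]
        exact inv_eq_of_mul_eq_one_right h4
  have hq := c.mem_fix_four hI ha haF (hX _ (mul_mem hn hn)) hsq
  rw [show cm a n = n⁻¹ * u * n⁻¹ by rw [hudef]; unfold cm; group,
    show n⁻¹ * u * n⁻¹ = n⁻¹ * (u * n⁻¹) by group, c.max.comm _ (c.le hu'.2) _ (inv_mem hn),
    ← mul_assoc, ← mul_inv_rev]
  exact mul_mem (inv_mem hq) hu'

theorem exists_two (hI : Nat.card (A ⊓ F : Subgroup G) = 4) (hN : ¬ N ≤ F) :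
    ∃ a c₀ y, Two A F N a c₀ y := by
  haveI := c.mod.normal
  obtain ⟨a, ha, haF⟩ := c.mod.exists_outside
  let φ : F →* G := MonoidHom.mk' (fun d => cm a d) fun d e => by
    rw [Subgroup.coe_mul]; exact c.mod.cm_hom a d.2 e.2
  have hker : 4 ≤ Nat.card φ.ker := by
    rw [← hI, ← c.mod.fix_eq_of_four hI ha haF]
    exact Nat.card_le_card_of_injective (fun d : c.mod.fix a => (⟨⟨d.1, (c.mod.mem_fix.1 d.2).1⟩,
      cm_eq_one_iff.2 (c.mod.mem_fix.1 d.2).2.symm⟩ : φ.ker))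
      fun d e he => Subtype.ext (congrArg (fun x : φ.ker => (x.1 : G)) he)
  have h2 : Nat.card φ.range ≤ 2 := by
    have h3 := φ.ker.card_mul_index
    rw [index_ker, c.cardF] at h3
    have := Nat.mul_le_mul_right (Nat.card φ.range) hker
    omega
  obtain ⟨f₀, hf₀, hf₀a⟩ : ∃ f ∈ F, cm a f ≠ 1 := by
    by_contra hno
    push Not at hno
    exact haF (c.mod.mem_I_of_mem_X ha (mem_centralizer_iff.2 fun f hf =>
      (cm_eq_one_iff.1 (hno f hf)).symm))
  set c₀ := cm a f₀ with hc₀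
  have hc₀I : c₀ ∈ A ⊓ F := by
    rw [← c.mod.fix_eq_of_four hI ha haF]
    exact c.mod.mem_fix.2 ⟨cm_mem a hf₀, (c.mod.cm_fix ha hf₀).symm⟩
  have hcases : ∀ f ∈ F, cm a f = 1 ∨ cm a f = c₀ := fun f hf => by
    by_contra hno
    push Not at hno
    have h7 : 2 < Nat.card φ.range := by
      haveI := Fintype.ofFinite φ.range
      rw [Nat.card_eq_fintype_card, Fintype.two_lt_card_iff]
      exact ⟨⟨1, one_mem _⟩, ⟨_, ⟨⟨f₀, hf₀⟩, rfl⟩⟩, ⟨_, ⟨⟨f, hf⟩, rfl⟩⟩,
        fun e => hf₀a (congrArg Subtype.val e).symm, fun e => hno.1 (congrArg Subtype.val e).symm,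
        fun e => hno.2 (congrArg Subtype.val e).symm⟩
    omega
  obtain ⟨y₀, hy₀, hy₀F⟩ := SetLike.not_le_iff_exists.1 hN
  have hd : ∀ n ∈ N, n ∉ F → cm a n ≠ 1 ∧ cm a n ≠ c₀ := fun n hn hnF =>
    ⟨fun e => c.free_four hI ha haF hn hnF (one_mem F) (e.trans (by simp [cm])),
      fun e => c.free_four hI ha haF hn hnF hf₀ e⟩
  have hs₀ : c.SqOne y₀ := fun n hn => by
    by_cases hnF : n ∈ F
    · exact Or.inl hnF
    refine Or.inr ?_
    by_contra hout
    have hd₀ := hd y₀ hy₀ hy₀F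
    have hd₁ := hd n hn hnF
    have hlist := four_elems hI (fun e he => c.mod.exp e he.2) hc₀I
      (c.cm_N_four hI ha haF hy₀) (cm_mem a hf₀ |> fun _ => hf₀a) hd₀.1 hd₀.2
      (c.cm_N_four hI ha haF hn)
    haveI := c.max.normal
    have hprod : cm a (y₀⁻¹ * n) = (cm a y₀)⁻¹ * cm a n := by
      rw [eq_inv_mul_iff_mul_eq, ← cm_mul_right (c.max.comm _ hy₀ _
        (cm_mem a (mul_mem (inv_mem hy₀) hn))), mul_inv_cancel_left]
    have hd₂ := hd (y₀⁻¹ * n) (mul_mem (inv_mem hy₀) hn) hout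
    rw [hprod, inv_eq_self (c.mod.exp _ (c.cm_N_four hI ha haF hy₀).2)] at hd₂
    rcases hlist with e | e | e | e
    · exact hd₁.1 e
    · exact hd₁.2 e
    · exact hd₂.1 (by rw [e, ← pow_two, c.mod.exp _ (c.cm_N_four hI ha haF hy₀).2])
    · refine hd₂.2 ?_
      rw [e, ← mul_assoc, (c.mod.e_comm (c.cm_N_four hI ha haF hy₀).2 hc₀I.2).eq, mul_assoc,
        ← pow_two, c.mod.exp _ (c.cm_N_four hI ha haF hy₀).2, mul_one]
  obtain ⟨y, hy, hyF, hs, hnorm⟩ : ∃ y ∈ N, y ∉ F ∧ c.SqOne y ∧ (y * y = c₀ ∨ cm a y = y * y) := by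
    by_cases hq : y₀ * y₀ = c₀
    · exact ⟨y₀, hy₀, hy₀F, hs₀, Or.inl hq⟩
    have hqI := c.q_mem_I hy₀ hy₀F hs₀
    rcases four_elems hI (fun e he => c.mod.exp e he.2) hc₀I hqI hf₀a
      (c.q_ne hy₀ hy₀F hs₀) hq (c.cm_N_four hI ha haF hy₀) with e | e | e | e
    · exact absurd e (hd y₀ hy₀ hy₀F).1
    · exact absurd e (hd y₀ hy₀ hy₀F).2
    · exact ⟨y₀, hy₀, hy₀F, hs₀, Or.inr e⟩
    · have hy'F : f₀ * y₀ ∉ F := fun h => hy₀F (by simpa using mul_mem (inv_mem hf₀) h)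
      have hy'N : f₀ * y₀ ∈ N := mul_mem (c.le hf₀) hy₀
      refine ⟨f₀ * y₀, hy'N, hy'F, fun n hn => ?_, Or.inr ?_⟩
      · rcases hs₀ n hn with h | h
        · exact Or.inl h
        · refine Or.inr ?_
          rw [mul_inv_rev, c.max.comm _ (inv_mem hy₀) _ (inv_mem (c.le hf₀)), mul_assoc]
          exact mul_mem (inv_mem hf₀) h
      · rw [c.sq_eq hy₀ hy₀F hs₀ hy'N hy'F, cm_mul_right (c.max.comm _ (c.le hf₀) _
          (c.le (c.cm_N_four hI ha haF hy₀).2)), e, ← mul_assoc, ← hc₀, ← pow_two,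
          c.mod.exp _ hc₀I.2, one_mul]
  exact ⟨a, c₀, y, c, hI, ha, haF, hc₀I, hf₀a, hcases, ⟨f₀, hf₀, rfl⟩, hy, hyF, hs, hnorm⟩

end Ctx

namespace Two

variable {A F N : Subgroup G} {a c₀ y : G} (T : Two A F N a c₀ y)
include T

theorem normal_C : (centralizer (N : Set G)).Normal := T.ctx.C_normal

theorem comm_C {d e : G} (hd : d ∈ centralizer (N : Set G)) (he : e ∈ centralizer (N : Set G)) :
    d * e = e * d := (T.ctx.structure_C T.memN T.notY T.sq).1 d hd e he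

theorem cm_hom_C (g : G) {d e : G} (hd : d ∈ centralizer (N : Set G))
    (he : e ∈ centralizer (N : Set G)) : cm g (d * e) = cm g d * cm g e := by
  haveI := T.normal_C
  exact cm_mul_right (T.comm_C hd (cm_mem g he))

theorem q_mem : y * y ∈ A ⊓ F := T.ctx.q_mem_I T.memN T.notY T.sq

theorem q_fix (g : G) : g * (y * y) = y * y * g := T.ctx.q_central T.memN T.notY T.sq g

theorem d_mem : cm a y ∈ A ⊓ F := T.ctx.cm_N_four T.four T.memA T.notF T.memN

theorem d_ne : cm a y ≠ 1 ∧ cm a y ≠ c₀ := by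
  constructor
  · intro e
    exact T.ctx.free_four T.four T.memA T.notF T.memN T.notY (one_mem F) (e.trans (by simp [cm]))
  · intro e
    obtain ⟨f, hf, hf'⟩ := T.reach0
    exact T.ctx.free_four T.four T.memA T.notF T.memN T.notY hf (e.trans hf'.symm)

theorem I_cases {i : G} (hi : i ∈ A ⊓ F) :
    i = 1 ∨ i = c₀ ∨ i = cm a y ∨ i = c₀ * cm a y :=
  four_elems T.four (fun e he => T.ctx.mod.exp e he.2) T.mem0 T.d_mem T.ne0 T.d_ne.1 T.d_ne.2 hi

theorem mem_I_of_inv {f : G} (hf : f ∈ F) (h : a * f * a⁻¹ * f = 1) : f ∈ A ⊓ F := by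
  rw [← T.ctx.mod.fix_eq_of_four T.four T.memA T.notF]
  refine T.ctx.mod.mem_fix.2 ⟨hf, ?_⟩
  have h1 := eq_inv_of_mul_eq_one_left h
  rw [inv_eq_self (T.ctx.mod.exp f hf)] at h1
  exact (mul_inv_eq_iff_eq_mul.1 h1).symm

theorem cm_inverted (x : G) : a * cm a x * a⁻¹ * cm a x = 1 := by
  have ha1 : a * a = 1 := by rw [← pow_two]; exact T.ctx.mod.eight.exp a T.memA
  calc a * cm a x * a⁻¹ * cm a x = a * a * x * (a * a)⁻¹ * x⁻¹ := by unfold cm; group
    _ = 1 := by rw [ha1]; group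

/-- Inverted elements in `C² F` are commutators. -/
theorem inv_even {d f : G} (hd : d ∈ centralizer (N : Set G)) (hf : f ∈ F)
    (hv : a * (d * d * f) * a⁻¹ * (d * d * f) = 1) :
    ∃ e ∈ centralizer (N : Set G), cm a e = d * d * f := by
  haveI := T.normal_C
  set C := centralizer (N : Set G)
  have ha1 : a * a = 1 := by rw [← pow_two]; exact T.ctx.mod.eight.exp a T.memA
  have hFC : ∀ x ∈ F, x ∈ C := fun x hx => T.ctx.N_le_C (T.ctx.le hx)
  have hconj : ∀ x ∈ C, a * x * a⁻¹ ∈ C := fun x hx => Subgroup.Normal.conj_mem inferInstance x hx a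
  set u := d * (a * d * a⁻¹) with hu
  have huI : u ∈ A ⊓ F := by
    refine T.ctx.mem_fix_four T.four T.memA T.notF (T.ctx.C_le_X (mul_mem hd (hconj d hd))) ?_
    rw [← mul_inv_eq_iff_eq_mul]
    calc a * u * a⁻¹ = a * d * a⁻¹ * (a * a * d * (a * a)⁻¹) := by rw [hu]; group
      _ = a * d * a⁻¹ * d := by rw [ha1]; group
      _ = u := T.comm_C (hconj d hd) hd
  have hcd : cm a d⁻¹ = u * d * d * (u * u) := by
    rw [← pow_two u, T.ctx.mod.exp u huI.2, mul_one]
    calc cm a d⁻¹ = (a * d * a⁻¹)⁻¹ * d := by unfold cm; group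
      _ = u⁻¹ * d * d := by rw [hu]; group
      _ = u * d * d := by rw [inv_eq_self (T.ctx.mod.exp u huI.2)]
  rw [← pow_two u, T.ctx.mod.exp u huI.2, mul_one] at hcd
  set w := u * f with hw
  have hwF : w ∈ F := mul_mem huI.2 hf
  have hvw : d * d * f = cm a d⁻¹ * w := by
    rw [hcd, hw, T.comm_C (hFC u huI.2) hd, show d * u * d = d * (u * d) by group,
      T.comm_C (hFC u huI.2) hd, show d * (d * u) * (u * f) = d * d * (u * u) * f by group,
      ← pow_two u, T.ctx.mod.exp u huI.2, mul_one]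
  have hwI : w ∈ A ⊓ F := by
    refine T.mem_I_of_inv hwF ?_
    have hC1 : cm a d⁻¹ ∈ C := cm_mem a (inv_mem hd)
    rw [hvw, show a * (cm a d⁻¹ * w) * a⁻¹ = a * cm a d⁻¹ * a⁻¹ * (a * w * a⁻¹) by group,
      Commute.mul_mul_mul_comm (T.comm_C (hconj w (hFC w hwF)) hC1), T.cm_inverted, one_mul] at hv
    exact hv
  obtain ⟨f₀, hf₀, hf₀'⟩ := T.reach0
  obtain ⟨e, he, hew⟩ : ∃ e ∈ C, cm a e = w := by
    rcases T.I_cases hwI with h | h | h | h
    · exact ⟨1, one_mem C, by rw [h]; simp [cm]⟩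
    · exact ⟨f₀, hFC f₀ hf₀, hf₀'.trans h.symm⟩
    · exact ⟨y, T.ctx.N_le_C T.memN, h.symm⟩
    · exact ⟨f₀ * y, mul_mem (hFC f₀ hf₀) (T.ctx.N_le_C T.memN), by
        rw [T.cm_hom_C a (hFC f₀ hf₀) (T.ctx.N_le_C T.memN), hf₀', h]⟩
  exact ⟨d⁻¹ * e, mul_mem (inv_mem hd) he, by rw [T.cm_hom_C a (inv_mem hd) he, hew, ← hvw]⟩

theorem even_or (v : G) (hv : v ∈ centralizer (N : Set G)) :
    ∀ w ∈ centralizer (N : Set G), (∃ d ∈ centralizer (N : Set G), ∃ f ∈ F, v = d * d * f) ∨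
      (∃ d ∈ centralizer (N : Set G), ∃ f ∈ F, w = d * d * f) ∨
      (∃ d ∈ centralizer (N : Set G), ∃ f ∈ F, v⁻¹ * w = d * d * f) := by
  intro w hw
  obtain ⟨hab, b, hb, hdec⟩ := T.ctx.structure_C T.memN T.notY T.sq
  obtain ⟨i, hi⟩ := hdec v hv
  obtain ⟨j, hj⟩ := hdec w hw
  have key : ∀ (x : G) (m : ℤ), (b ^ (2 * m))⁻¹ * x ∈ F →
      ∃ d ∈ centralizer (N : Set G), ∃ f ∈ F, x = d * d * f := fun x m h =>
    ⟨b ^ m, zpow_mem hb m, _, h, by rw [← zpow_add, ← two_mul, mul_inv_cancel_left]⟩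
  rcases Int.even_or_odd' i with ⟨m, rfl | rfl⟩
  · exact Or.inl (key v m hi)
  rcases Int.even_or_odd' j with ⟨k, rfl | rfl⟩
  · exact Or.inr (Or.inl (key w k hj))
  refine Or.inr (Or.inr (key _ (k - m) ?_))
  have hFC : ∀ x ∈ F, x ∈ centralizer (N : Set G) := fun x hx => T.ctx.N_le_C (T.ctx.le hx)
  have h1 : v⁻¹ * w = ((b ^ (2 * m + 1))⁻¹ * v)⁻¹ * (b ^ (2 * (k - m))) *
      ((b ^ (2 * k + 1))⁻¹ * w) := by group
  rw [h1, hab _ (inv_mem (hFC _ hi)) _ (zpow_mem hb _), mul_assoc, inv_mul_cancel_left]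
  exact mul_mem (inv_mem hi) hj

/-- The elements commuting with `a` modulo `C` that centralise `A ∩ F`. -/
def InP (_T : Two A F N a c₀ y) (s : G) : Prop :=
  cm a s ∈ centralizer (N : Set G) ∧ ∀ i ∈ A ⊓ F, s * i = i * s

/-- Elements of `C A`. -/
def InCA (_T : Two A F N a c₀ y) (s : G) : Prop :=
  ∃ e ∈ centralizer (N : Set G), e * s ∈ A

theorem InP_of_C {d : G} (hd : d ∈ centralizer (N : Set G)) : T.InP d := by
  haveI := T.normal_C
  exact ⟨cm_mem a hd, fun i hi => (mem_centralizer_iff.1 hd i (T.ctx.le hi.2)).symm⟩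

theorem InP_mul {s t : G} (hs : T.InP s) (ht : T.InP t) : T.InP (s * t) := by
  haveI := T.normal_C
  refine ⟨?_, fun i hi => by rw [mul_assoc, ht.2 i hi, ← mul_assoc, hs.2 i hi, mul_assoc]⟩
  rw [show cm a (s * t) = cm a s * (s * cm a t * s⁻¹) by unfold cm; group]
  exact mul_mem hs.1 (Subgroup.Normal.conj_mem inferInstance _ ht.1 s)

theorem InP_inv {s : G} (hs : T.InP s) : T.InP s⁻¹ := by
  haveI := T.normal_C
  refine ⟨?_, fun i hi => ?_⟩
  · rw [show cm a s⁻¹ = s⁻¹ * (cm a s)⁻¹ * s⁻¹⁻¹ by unfold cm; group]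
    exact Subgroup.Normal.conj_mem inferInstance _ (inv_mem hs.1) _
  · exact ((show Commute s i from hs.2 i hi).inv_left).eq

theorem InCA_of_cm {s e : G} (hs : T.InP s) (he : e ∈ centralizer (N : Set G))
    (h : cm a e = cm a s) : T.InCA s := by
  haveI := T.normal_C
  refine ⟨e⁻¹, inv_mem he, ?_⟩
  have hP := T.InP_mul (T.InP_of_C (inv_mem he)) hs
  refine T.ctx.mod.mem_of_four T.four T.memA T.notF ?_ hP.2
  refine (cm_eq_one_iff.1 ?_).symm
  have h1 : cm a e⁻¹ = (cm a e)⁻¹ := by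
    refine eq_inv_of_mul_eq_one_left ?_
    rw [← T.cm_hom_C a (inv_mem he) he, inv_mul_cancel]
    simp [cm]
  rw [show cm a (e⁻¹ * s) = cm a e⁻¹ * (e⁻¹ * cm a s * e⁻¹⁻¹) by unfold cm; group,
    T.comm_C (inv_mem he) hs.1, mul_inv_cancel_right, h1, h, inv_mul_cancel]

theorem not_even {s : G} (hs : T.InP s) (hCA : ¬ T.InCA s) :
    ¬ ∃ d ∈ centralizer (N : Set G), ∃ f ∈ F, cm a s = d * d * f := by
  rintro ⟨d, hd, f, hf, e⟩
  obtain ⟨e', he', he''⟩ := T.inv_even hd hf (e ▸ T.cm_inverted s)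
  exact hCA (T.InCA_of_cm hs he' (he''.trans e.symm))

theorem even_conj (s : G) {x : G} (hx : ∃ d ∈ centralizer (N : Set G), ∃ f ∈ F, x = d * d * f) :
    ∃ d ∈ centralizer (N : Set G), ∃ f ∈ F, s * x * s⁻¹ = d * d * f := by
  haveI := T.normal_C
  haveI := T.ctx.mod.normal
  obtain ⟨d, hd, f, hf, rfl⟩ := hx
  exact ⟨s * d * s⁻¹, Subgroup.Normal.conj_mem inferInstance d hd s, s * f * s⁻¹,
    Subgroup.Normal.conj_mem inferInstance f hf s, by group⟩

theorem two_cosets {s t : G} (hs : T.InP s) (ht : T.InP t) (hsn : ¬ T.InCA s)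
    (htn : ¬ T.InCA t) : T.InCA (s⁻¹ * t) := by
  by_contra hn
  have hv := hs.1
  rcases T.even_or _ hs.1 _ ht.1 with h | h | h
  · exact T.not_even hs hsn h
  · exact T.not_even ht htn h
  · refine T.not_even (T.InP_mul (T.InP_inv hs) ht) hn ?_
    have h1 := T.even_conj s⁻¹ h
    rwa [show s⁻¹ * ((cm a s)⁻¹ * cm a t) * s⁻¹⁻¹ = cm a (s⁻¹ * t) by unfold cm; group] at h1

theorem inCA_of_eq (hqc : y * y = c₀) {s : G} (hs : T.InP s) : T.InCA s := by
  haveI := T.normal_C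
  by_contra hn
  have hne := T.not_even hs hn
  set v := cm a s with hv
  have hinv : a * v * a⁻¹ * v = 1 := T.cm_inverted s
  have hN : ∀ n ∈ N, n ∉ F → a * n * a⁻¹ * n = 1 → False := fun n hn hnF h => by
    have h1 : cm a n = y * y := by
      show a * n * a⁻¹ * n⁻¹ = y * y
      rw [eq_inv_of_mul_eq_one_left h, ← mul_inv_rev, T.ctx.sq_eq T.memN T.notY T.sq hn hnF,
        inv_eq_self (T.ctx.mod.exp _ T.q_mem.2)]
    obtain ⟨f, hf, hf'⟩ := T.reach0
    exact T.ctx.free_four T.four T.memA T.notF hn hnF hf (h1.trans (hqc.trans hf'.symm))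
  by_cases hv4 : v ^ 4 = 1
  · refine hN v (T.ctx.mem_N hs.1 hv4) (fun h => hne ⟨1, one_mem _, v, h, by simp⟩) hinv
  · obtain ⟨k, -, ho⟩ := exists_pow_order_four T.ctx.two hv4
    have h4 : (v ^ 2 ^ k) ^ 4 = 1 := ho ▸ pow_orderOf_eq_one _
    refine hN _ (T.ctx.mem_N (pow_mem hs.1 _) h4) (fun h => ?_) ?_
    · have h2 := orderOf_dvd_iff_pow_eq_one.2 (T.ctx.mod.exp _ h)
      rw [ho] at h2
      norm_num at h2
    · rw [← conj_pow, eq_inv_of_mul_eq_one_left hinv, inv_pow, inv_mul_cancel]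

theorem inCA_cases {s : G} (h : T.InCA s) :
    s ∈ centralizer (N : Set G) ∨ a⁻¹ * s ∈ centralizer (N : Set G) := by
  classical
  haveI := T.normal_C
  obtain ⟨e, he, heA⟩ := h
  have hC : ∀ i ∈ A ⊓ F, i ∈ centralizer (N : Set G) := fun i hi => T.ctx.N_le_C (T.ctx.le hi.2)
  let Φ : Bool × (A ⊓ F : Subgroup G) → A := fun p =>
    ⟨(if p.1 then a else 1) * (p.2 : G), A.mul_mem (by split_ifs; exacts [T.memA, A.one_mem]) p.2.2.1⟩
  have hΦ : Function.Surjective Φ := by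
    refine ((Nat.bijective_iff_injective_and_card Φ).2 ⟨?_, ?_⟩).2
    · rintro ⟨p, i⟩ ⟨p', i'⟩ e'
      have e'' : (if p then a else 1) * (i : G) = (if p' then a else 1) * (i' : G) :=
        congrArg Subtype.val e'
      cases p <;> cases p' <;> simp only [Bool.false_eq_true, if_false, if_true, one_mul] at e''
      · rw [show i = i' from Subtype.ext e'']
      · exact absurd (by
          rw [show a = (i : G) * (i' : G)⁻¹ by rw [e'']; group]
          exact mul_mem i.2.2 (inv_mem i'.2.2)) T.notF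
      · exact absurd (by
          rw [show a = (i' : G) * (i : G)⁻¹ by rw [← e'']; group]
          exact mul_mem i'.2.2 (inv_mem i.2.2)) T.notF
      · rw [show i = i' from Subtype.ext (mul_left_cancel e'')]
    · rw [Nat.card_prod, Nat.card_eq_fintype_card (α := Bool), Fintype.card_bool, T.four,
        T.ctx.mod.eight.card]
  obtain ⟨⟨p, i⟩, hp⟩ := hΦ ⟨e * s, heA⟩
  have hp' : (if p then a else 1) * (i : G) = e * s := congrArg Subtype.val hp
  cases p
  · left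
    simp only [Bool.false_eq_true, if_false, one_mul] at hp'
    rw [show s = e⁻¹ * i by rw [hp']; group]
    exact mul_mem (inv_mem he) (hC i i.2)
  · right
    simp only [if_true] at hp'
    rw [show a⁻¹ * s = a⁻¹ * e⁻¹ * a * i by rw [mul_assoc _ a, hp']; group]
    refine mul_mem ?_ (hC i i.2)
    simpa using Subgroup.Normal.conj_mem (inferInstance : (centralizer (N : Set G)).Normal) _
      (inv_mem he) a⁻¹

theorem notin {u : G} (h : u ∈ centralizer (N : Set G))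
    (h' : a⁻¹ * u ∈ centralizer (N : Set G)) : False := by
  refine T.notF (T.ctx.mod.mem_I_of_mem_X T.memA (T.ctx.C_le_X ?_))
  rw [show a = u * (a⁻¹ * u)⁻¹ by group]
  exact mul_mem h (inv_mem h')

theorem inCA_sub {u w : G} (h : a⁻¹ * u ∈ centralizer (N : Set G))
    (h' : w⁻¹ * u ∈ centralizer (N : Set G)) : T.InCA w := by
  haveI := T.normal_C
  refine ⟨a * ((a⁻¹ * u * (w⁻¹ * u)⁻¹)⁻¹) * a⁻¹, ?_, ?_⟩
  · exact Subgroup.Normal.conj_mem inferInstance _ (inv_mem (mul_mem h (inv_mem h'))) a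
  · rw [show a * ((a⁻¹ * u * (w⁻¹ * u)⁻¹)⁻¹) * a⁻¹ * w = a by group]
    exact T.memA

theorem centraliser_le :
    haveI := T.normal_C
    Nat.card (centralizer ({QuotientGroup.mk' (centralizer (N : Set G)) a} :
      Set (G ⧸ centralizer (N : Set G)))) ≤ 4 := by
  classical
  haveI := T.normal_C
  haveI := T.ctx.mod.normal
  set C := centralizer (N : Set G) with hC
  set π := QuotientGroup.mk' C with hπ
  set P₀ := (centralizer ({π a} : Set (G ⧸ C))).comap π with hP₀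
  have hcard : Nat.card (centralizer ({π a} : Set (G ⧸ C))) = C.relIndex P₀ := by
    have h1 : C = (⊥ : Subgroup (G ⧸ C)).comap π := by
      rw [MonoidHom.comap_bot, hπ, QuotientGroup.ker_mk']
    conv_rhs => rw [h1, relIndex_comap, hP₀,
      map_comap_eq_self_of_surjective (QuotientGroup.mk'_surjective C), relIndex_bot_left]
  rw [hcard]
  have hmem : ∀ s ∈ P₀, cm a s ∈ C := fun s hs => by
    refine (QuotientGroup.eq_one_iff _).1 ?_
    show π (a * s * a⁻¹ * s⁻¹) = 1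
    rw [map_mul, map_mul, map_mul, map_inv, map_inv, ← (mem_centralizer_singleton_iff.1 hs : π s * π a = π a * π s)]
    group
  have hIinv : ∀ s ∈ P₀, ∀ i ∈ A ⊓ F, s * i * s⁻¹ ∈ A ⊓ F := by
    intro s hs i hi
    rw [← T.ctx.mod.fix_eq_of_four T.four T.memA T.notF]
    have hsi : s * i * s⁻¹ ∈ F := Subgroup.Normal.conj_mem inferInstance i hi.2 s
    refine T.ctx.mod.mem_fix.2 ⟨hsi, ?_⟩
    have h1 : a * (s * i * s⁻¹) * a⁻¹ = cm a s * (s * (a * i * a⁻¹) * s⁻¹) * (cm a s)⁻¹ := by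
      unfold cm; group
    rw [show a * i * a⁻¹ = i by
      rw [(T.ctx.mod.eight.comm T.memA hi.1).eq, mul_inv_cancel_right],
      (mem_centralizer_iff.1 (hmem s hs) _ (T.ctx.le hsi)).symm, mul_inv_cancel_right] at h1
    exact (mul_inv_eq_iff_eq_mul.1 h1).symm
  have hc₀fix : ∀ s ∈ P₀, s * c₀ * s⁻¹ = c₀ := by
    intro s hs
    obtain ⟨f, hf, hf'⟩ := T.reach0
    have hsf : s * f * s⁻¹ ∈ F := Subgroup.Normal.conj_mem inferInstance f hf s
    have h1 : s * c₀ * s⁻¹ = cm a (s * f * s⁻¹) := by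
      rw [← hf']
      have hv := hmem s hs
      have e1 : s * a * s⁻¹ = (cm a s)⁻¹ * a := by unfold cm; group
      have e2 : s * cm a f * s⁻¹ = cm (s * a * s⁻¹) (s * f * s⁻¹) := by unfold cm; group
      rw [e2, e1]
      have hcomm : Commute (cm a s)⁻¹ (a * (s * f * s⁻¹) * a⁻¹) :=
        (mem_centralizer_iff.1 (inv_mem hv) _
          (T.ctx.le (Subgroup.Normal.conj_mem inferInstance _ hsf a))).symm
      show (cm a s)⁻¹ * a * (s * f * s⁻¹) * ((cm a s)⁻¹ * a)⁻¹ * (s * f * s⁻¹)⁻¹ = _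
      rw [show (cm a s)⁻¹ * a * (s * f * s⁻¹) * ((cm a s)⁻¹ * a)⁻¹ =
        (cm a s)⁻¹ * (a * (s * f * s⁻¹) * a⁻¹) * (cm a s) by group, hcomm.eq, inv_mul_cancel_right]
      rfl
    rw [h1]
    exact (T.cases0 _ hsf).resolve_left fun e => T.ne0 (by
      rw [← h1, conj_eq_one_iff] at e; exact e)
  have hP : ∀ s ∈ P₀, s * cm a y = cm a y * s → T.InP s := fun s hs hd =>
    ⟨hmem s hs, fun i hi => by
      rcases T.I_cases hi with rfl | rfl | rfl | rfl
      · rw [one_mul, mul_one]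
      · exact mul_inv_eq_iff_eq_mul.1 (hc₀fix s hs)
      · exact hd
      · rw [← mul_assoc, mul_inv_eq_iff_eq_mul.1 (hc₀fix s hs), mul_assoc, hd, mul_assoc]⟩
  by_cases hall : ∀ s ∈ P₀, s * cm a y = cm a y * s
  · by_cases hw : ∃ w ∈ P₀, ¬ T.InCA w
    · obtain ⟨w, hw, hwn⟩ := hw
      refine (relIndex_le_of_map (fun s => (decide (T.InCA s), decide (s ∈ C ∨ w⁻¹ * s ∈ C)))
        (Finset.univ : Finset (Bool × Bool)) (fun _ _ => Finset.mem_univ _)
        fun s hs t ht e => ?_).trans (le_of_eq (by simp))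
      simp only [Prod.mk.injEq, decide_eq_decide] at e
      have hsP := hP s hs (hall s hs)
      have htP := hP t ht (hall t ht)
      have hwP := hP w hw (hall w hw)
      have key : ∀ u, T.InP u → ¬ T.InCA u → w⁻¹ * u ∈ C ∨ a⁻¹ * (w⁻¹ * u) ∈ C := fun u hu hun =>
        T.inCA_cases (T.two_cosets hwP hu hwn hun)
      have hCmem : ∀ u ∈ C, T.InCA u := fun u hu => ⟨u⁻¹, inv_mem hu, by simp [A.one_mem]⟩
      have hmid : ∀ u v : G, a⁻¹ * u ∈ C → a⁻¹ * v ∈ C → u⁻¹ * v ∈ C := fun u v hu hv => by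
        rw [show u⁻¹ * v = (a⁻¹ * u)⁻¹ * (a⁻¹ * v) by group]; exact mul_mem (inv_mem hu) hv
      by_cases hsA : T.InCA s
      · have htA := e.1.1 hsA
        rcases T.inCA_cases hsA with h1 | h1 <;> rcases T.inCA_cases htA with h2 | h2
        · exact mul_mem (inv_mem h1) h2
        · exfalso
          rcases e.2.1 (Or.inl h1) with h3 | h3
          · exact T.notin h3 h2
          · exact hwn (T.inCA_sub h2 h3)
        · exfalso
          rcases e.2.2 (Or.inl h2) with h3 | h3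
          · exact T.notin h3 h1
          · exact hwn (T.inCA_sub h1 h3)
        · exact hmid s t h1 h2
      · have htA : ¬ T.InCA t := fun h => hsA (e.1.2 h)
        have hsC : s ∉ C := fun h => hsA (hCmem s h)
        have htC : t ∉ C := fun h => htA (hCmem t h)
        by_cases h1 : w⁻¹ * s ∈ C
        · have h2 := (e.2.1 (Or.inr h1)).resolve_left htC
          rw [show s⁻¹ * t = (w⁻¹ * s)⁻¹ * (w⁻¹ * t) by group]
          exact mul_mem (inv_mem h1) h2
        · have h2 : w⁻¹ * t ∉ C := fun h => h1 ((e.2.2 (Or.inr h)).resolve_left hsC)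
          rw [show s⁻¹ * t = (a⁻¹ * (w⁻¹ * s))⁻¹ * (a⁻¹ * (w⁻¹ * t)) by group]
          exact mul_mem (inv_mem ((key s hsP hsA).resolve_left h1)) ((key t htP htA).resolve_left h2)
    · push Not at hw
      refine (relIndex_le_of_map (fun s => decide (s ∈ C)) (Finset.univ : Finset Bool)
        (fun _ _ => Finset.mem_univ _) fun s hs t ht e => ?_).trans (by simp)
      simp only [decide_eq_decide] at e
      by_cases h : s ∈ C
      · exact mul_mem (inv_mem h) (e.1 h)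
      · rw [show s⁻¹ * t = (a⁻¹ * s)⁻¹ * (a⁻¹ * t) by group]
        exact mul_mem (inv_mem ((T.inCA_cases (hw s hs)).resolve_left h))
          ((T.inCA_cases (hw t ht)).resolve_left fun h' => h (e.2 h'))
  · -- then `y * y = c₀`
    have hqc : y * y = c₀ := by
      rcases T.norm with h | h
      · exact h
      · exact absurd (fun s _ => h ▸ T.q_fix s) hall
    push Not at hall
    obtain ⟨w, hw, hwn⟩ := hall
    have hmv : ∀ s ∈ P₀, s * cm a y ≠ cm a y * s → s * cm a y * s⁻¹ = c₀ * cm a y := by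
      intro s hs hne
      rcases T.I_cases (hIinv s hs _ T.d_mem) with h | h | h | h
      · exact absurd (conj_eq_one_iff.1 h) T.d_ne.1
      · exact absurd (mul_left_cancel (mul_right_cancel (h.trans (hc₀fix s hs).symm))) T.d_ne.2
      · exact absurd (mul_inv_eq_iff_eq_mul.1 h) hne
      · exact h
    refine (relIndex_le_of_map (fun s => (decide (s * cm a y = cm a y * s),
      decide (s ∈ C ∨ w⁻¹ * s ∈ C))) (Finset.univ : Finset (Bool × Bool))
      (fun _ _ => Finset.mem_univ _) fun s hs t ht e => ?_).trans (le_of_eq (by simp))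
    simp only [Prod.mk.injEq, decide_eq_decide] at e
    have hin : ∀ u ∈ P₀, ∀ v ∈ P₀, (u * cm a y * u⁻¹ = v * cm a y * v⁻¹) →
        u⁻¹ * v ∈ C ∨ a⁻¹ * (u⁻¹ * v) ∈ C := fun u hu v hv h => by
      refine T.inCA_cases (T.inCA_of_eq hqc (hP _ (P₀.mul_mem (P₀.inv_mem hu) hv) ?_))
      calc u⁻¹ * v * cm a y = u⁻¹ * (v * cm a y * v⁻¹) * v := by group
        _ = u⁻¹ * (u * cm a y * u⁻¹) * v := by rw [h]
        _ = cm a y * (u⁻¹ * v) := by group
    by_cases hsd : s * cm a y = cm a y * s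
    · have htd := e.1.1 hsd
      have hsC := T.inCA_cases (T.inCA_of_eq hqc (hP s hs hsd))
      have htC := T.inCA_cases (T.inCA_of_eq hqc (hP t ht htd))
      have hnw : ∀ u, u * cm a y = cm a y * u → w⁻¹ * u ∉ C := fun u hu h => hwn (by
        have h1 := mem_centralizer_iff.1 h _ (T.ctx.le T.d_mem.2)
        calc w * cm a y = w * (cm a y * (w⁻¹ * u)) * (w⁻¹ * u)⁻¹ := by group
          _ = w * (w⁻¹ * u * cm a y) * (w⁻¹ * u)⁻¹ := by rw [h1]
          _ = u * cm a y * u⁻¹ * w := by group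
          _ = cm a y * w := by rw [hu, mul_inv_cancel_right])
      rcases hsC with h1 | h1
      · exact mul_mem (inv_mem h1) ((e.2.1 (Or.inl h1)).resolve_right (hnw t htd))
      · rcases htC with h2 | h2
        · exact mul_mem (inv_mem ((e.2.2 (Or.inl h2)).resolve_right (hnw s hsd))) h2
        · rw [show s⁻¹ * t = (a⁻¹ * s)⁻¹ * (a⁻¹ * t) by group]
          exact mul_mem (inv_mem h1) h2
    · have htd : ¬ t * cm a y = cm a y * t := fun h => hsd (e.1.2 h)
      have hout : ∀ u, ¬ u * cm a y = cm a y * u → u ∉ C := fun u hu h =>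
        hu (mem_centralizer_iff.1 h _ (T.ctx.le T.d_mem.2)).symm
      by_cases h1 : w⁻¹ * s ∈ C
      · have h2 := (e.2.1 (Or.inr h1)).resolve_left (hout t htd)
        rw [show s⁻¹ * t = (w⁻¹ * s)⁻¹ * (w⁻¹ * t) by group]
        exact mul_mem (inv_mem h1) h2
      · have h2 : w⁻¹ * t ∉ C := fun h => h1 ((e.2.2 (Or.inr h)).resolve_left (hout s hsd))
        have h3 := (hin w hw s hs ((hmv w hw hwn).trans (hmv s hs hsd).symm)).resolve_left h1
        have h4 := (hin w hw t ht ((hmv w hw hwn).trans (hmv t ht htd).symm)).resolve_left h2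
        rw [show s⁻¹ * t = (a⁻¹ * (w⁻¹ * s))⁻¹ * (a⁻¹ * (w⁻¹ * t)) by group]
        exact mul_mem (inv_mem h3) h4

/-- No element outside `C A` squares into `C² F` with the given action. -/
theorem gen (hq : cm a y = y * y) (hqc : y * y ≠ c₀) {s : G} (hs : T.InP s) (hCA : ¬ T.InCA s)
    (hsy : cm s y = 1 ∨ cm s y = c₀) (hmod : ∀ d ∈ centralizer (N : Set G), cm s d ∈ F)
    (hss : ∃ d ∈ centralizer (N : Set G), ∃ f ∈ F, s * s = d * d * f) : False := by
  haveI := T.normal_C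
  haveI := T.ctx.mod.normal
  set C := centralizer (N : Set G) with hC
  obtain ⟨d, hd, f, hf, hsd⟩ := hss
  set t := s * d⁻¹ with ht
  have htP : T.InP t := T.InP_mul hs (T.InP_of_C (inv_mem hd))
  have htn : ¬ T.InCA t := fun ⟨e, he, h⟩ => hCA ⟨e * (s * d⁻¹ * s⁻¹),
    mul_mem he (Subgroup.Normal.conj_mem inferInstance _ (inv_mem hd) s), by
      rw [show e * (s * d⁻¹ * s⁻¹) * s = e * t by rw [ht]; group]; exact h⟩
  have hFC : ∀ x ∈ F, x ∈ C := fun x hx => T.ctx.N_le_C (T.ctx.le hx)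
  have hcmt : ∀ x ∈ C, cm t x = cm s x := fun x hx => by
    rw [show cm t x = s * (d⁻¹ * x * d) * s⁻¹ * x⁻¹ by rw [ht]; unfold cm; group,
      T.comm_C (inv_mem hd) hx, inv_mul_cancel_right]
    rfl
  have htt : t * t ∈ F := by
    have h1 : s * d * s⁻¹ = cm s d * d := conj_eq_cm s d
    have h2 : s * d⁻¹ * s⁻¹ = d⁻¹ * cm s d := by
      rw [show s * d⁻¹ * s⁻¹ = (s * d * s⁻¹)⁻¹ by group, h1, mul_inv_rev,
        inv_eq_self (T.ctx.mod.exp _ (hmod d hd))]
    rw [show t * t = s * d⁻¹ * s⁻¹ * (s * s) * d⁻¹ by rw [ht]; group, h2, hsd,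
      T.comm_C (inv_mem hd) (hFC _ (hmod d hd)),
      show cm s d * d⁻¹ * (d * d * f) * d⁻¹ = cm s d * (d * f * d⁻¹) by group,
      T.comm_C hd (hFC f hf), mul_inv_cancel_right]
    exact mul_mem (hmod d hd) hf
  set v := cm a t with hv
  have hvC : v ∈ C := htP.1
  have hsv : t * v * t⁻¹ = cm s v * v := by rw [conj_eq_cm, hcmt v hvC]
  have hsplit : cm a (t * t) = cm s v * (v * v) := by
    rw [show cm a (t * t) = v * (t * v * t⁻¹) by rw [hv]; unfold cm; group, hsv, ← mul_assoc,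
      T.comm_C hvC (hFC _ (hmod v hvC)), mul_assoc]
  have hv2 : v * v ∈ F := by
    rw [show v * v = (cm s v)⁻¹ * cm a (t * t) by rw [hsplit]; group]
    exact mul_mem (inv_mem (hmod v hvC)) (cm_mem a htt)
  have hvN : v ∈ N := T.ctx.mem_N hvC (by
    rw [show (4 : ℕ) = 2 * 2 by rfl, pow_mul, pow_two v]; exact T.ctx.mod.exp _ hv2)
  have hne := T.not_even htP htn
  have hvF : v ∉ F := fun h => hne ⟨1, one_mem _, v, h, by simp [← hv]⟩
  -- `v ∈ y F`
  obtain ⟨g, hg, hvg⟩ : ∃ g ∈ F, v = y * g :=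
    ⟨_, (T.sq v hvN).resolve_left hvF, (mul_inv_cancel_left y v).symm⟩
  have hvq : v * v = y * y := T.ctx.sq_eq T.memN T.notY T.sq hvN hvF
  have hga : cm a g = 1 := by
    have h1 : cm a v = y * y := by
      have h0 := eq_inv_of_mul_eq_one_left (T.cm_inverted t)
      rw [← hv] at h0
      show a * v * a⁻¹ * v⁻¹ = y * y
      rw [h0, ← mul_inv_rev, hvq, inv_eq_self (T.ctx.mod.exp _ T.q_mem.2)]
    rw [hvg, T.cm_hom_C a (T.ctx.N_le_C T.memN) (hFC g hg), hq] at h1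
    exact mul_left_cancel (h1.trans (mul_one _).symm)
  have hgI : g ∈ A ⊓ F := by
    rw [← T.ctx.mod.fix_eq_of_four T.four T.memA T.notF]
    exact T.ctx.mod.mem_fix.2 ⟨hg, (cm_eq_one_iff.1 hga).symm⟩
  have hsvy : cm s v = cm s y := by
    rw [hvg, T.cm_hom_C s (T.ctx.N_le_C T.memN) (hFC g hg), cm_eq_one_iff.2 (hs.2 g hgI), mul_one]
  rw [hsvy, hvq] at hsplit
  rcases T.cases0 _ htt with e | e <;> rw [e] at hsplit <;> rcases hsy with e' | e' <;>
    rw [e'] at hsplit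
  · exact T.ctx.q_ne T.memN T.notY T.sq (by simpa using hsplit.symm)
  · exact hqc (mul_left_cancel (a := c₀) (hsplit.symm.trans
      (by rw [← pow_two, T.ctx.mod.exp _ T.mem0.2])))
  · exact hqc (by simpa using hsplit.symm)
  · exact T.ctx.q_ne T.memN T.notY T.sq (mul_left_cancel (hsplit.symm.trans (mul_one c₀).symm))

end Two

end CfsgLib.PGroup.SelfCentEight
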