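import Cfsg.Agent.Lib.PGroup.SelfCentEight.Sixteen
import Cfsg.Agent.Lib.Coprime.PGroupFrattini

/-!
# No normal elementary subgroup of order sixteen: common part
-/

set_option autoImplicit false
set_option linter.unusedSectionVars false
set_option linter.style.haveILetI false

open Subgroup

namespace CfsgLib.PGroup.SelfCentEight

open CfsgLib.PGroup.FourGen

variable {G : Type*} [Group G]

theorem conj_pair (g h x : G) : g * (h * x * h⁻¹) * g⁻¹ = g * h * x * (g * h)⁻¹ := by group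

theorem exists_gen {Q : Type*} [Group Q] [Finite Q] (hQ : IsPGroup 2 Q)
    (h : ∀ M : Subgroup Q, (∀ x : Q, x * x ∈ M) → M.index ≤ 2) :
    ∃ b : Q, ∀ x : Q, x ∈ zpowers b := by
  haveI : Fact (Nat.Prime 2) := ⟨Nat.prime_two⟩
  set M := closure (Set.range fun x : Q => x * x) with hM
  have hco : ∀ W : Subgroup Q, IsCoatom W → M ≤ W ∧ W.index = 2 := fun W hW => by
    obtain ⟨_, hi⟩ := Coprime.coatom_data_of_pGroup hQ hW
    refine ⟨(closure_le _).2 ?_, hi⟩
    rintro _ ⟨x, rfl⟩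
    exact mul_self_mem_of_index_two hi x
  rcases eq_top_or_exists_le_coatom (⊥ : Subgroup Q) with hb | ⟨W, hW, -⟩
  · exact ⟨1, fun x => by rw [zpowers_one_eq_bot, hb]; exact mem_top x⟩
  obtain ⟨hMW, hWi⟩ := hco W hW
  have hM2 : M.index = 2 := le_antisymm (h M fun x => subset_closure ⟨x, rfl⟩)
    (hWi ▸ Nat.le_of_dvd (Nat.pos_of_ne_zero index_ne_zero_of_finite) (index_dvd_of_le hMW))
  obtain ⟨b, hb⟩ : ∃ b, b ∉ M := by
    by_contra hno
    push Not at hno
    rw [(eq_top_iff' M).2 hno, index_top] at hM2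
    omega
  refine ⟨b, fun x => ?_⟩
  rcases eq_top_or_exists_le_coatom (zpowers b) with htop | ⟨W', hW', hbW⟩
  · rw [htop]; exact mem_top x
  · obtain ⟨hMW', hW'i⟩ := hco W' hW'
    have h1 : M = W' := by
      refine eq_of_le_of_card_ge hMW' ?_
      have e1 := M.index_mul_card
      have e2 := W'.index_mul_card
      rw [hM2] at e1
      rw [hW'i] at e2
      omega
    exact absurd (hbW (mem_zpowers b)) (h1 ▸ hb)

/-- `F` is a largest normal elementary subgroup, of order eight, inside `N`. -/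
structure Ctx (A F N : Subgroup G) : Prop where
  mod : Mod A F
  cardF : Nat.card F = 8
  top : ∀ B : Subgroup G, B.Normal → (∀ b ∈ B, b ^ 2 = 1) → Nat.card B ≤ 8
  max : MaxFour N
  le : F ≤ N

namespace Ctx

variable [Finite G] {A F N : Subgroup G} (c : Ctx A F N)
include c

theorem two : IsPGroup 2 G := c.mod.eight.two

theorem omega {n : G} (hn : n ∈ N) (h2 : n ^ 2 = 1) : n ∈ F := by
  have h1 : F = omegaOne c.max := eq_of_le_of_card_ge (fun f hf => ⟨c.le hf, c.mod.exp f hf⟩)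
    (by rw [c.cardF]; exact c.top _ (omegaOne_normal c.max) fun e he => he.2)
  rw [h1]; exact ⟨hn, h2⟩

theorem C_normal : (centralizer (N : Set G)).Normal := by
  haveI := c.max.normal
  exact Subgroup.normal_centralizer

theorem N_le_C : N ≤ centralizer (N : Set G) :=
  fun a ha => mem_centralizer_iff.2 fun b hb => c.max.comm b hb a ha

theorem C_le_X : centralizer (N : Set G) ≤ centralizer (F : Set G) := Subgroup.centralizer_le c.le

theorem X_normal : (centralizer (F : Set G)).Normal := by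
  haveI := c.mod.normal
  exact Subgroup.normal_centralizer

theorem mem_N {d : G} (hd : d ∈ centralizer (N : Set G)) (h4 : d ^ 4 = 1) : d ∈ N :=
  c.max.mem_of_pow_four c.two hd h4

theorem mem_F {d : G} (hd : d ∈ centralizer (N : Set G)) (h2 : d ^ 2 = 1) : d ∈ F :=
  c.omega (c.mem_N hd (by rw [show (4 : ℕ) = 2 * 2 by rfl, pow_mul, h2, one_pow])) h2

theorem sq_mem {n : G} (hn : n ∈ N) : n * n ∈ F :=
  c.omega (mul_mem hn hn) (by rw [← pow_two, ← pow_mul]; exact c.max.exp n hn)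

theorem cm_mem_F {g n : G} (hn : n ∈ N) (h : Commute g (n * n)) : cm g n ∈ F := by
  haveI := c.max.normal
  refine c.omega (cm_mem g hn) ?_
  rw [cm, Commute.mul_pow (c.max.comm _ (Subgroup.Normal.conj_mem inferInstance n hn g) _ (inv_mem hn)),
    conj_pow, pow_two, h.eq, mul_inv_cancel_right, inv_pow, pow_two, mul_inv_cancel]

theorem cm_comm {g h n : G} (hn : n ∈ N) (hgh : g * h = h * g) :
    cm g (cm h n) = cm h (cm g n) := by
  haveI := c.max.normal
  have hN : ∀ x : G, x * n * x⁻¹ ∈ N := fun x => Subgroup.Normal.conj_mem inferInstance n hn x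
  have expand : ∀ u v : G, cm u (cm v n) =
      (u * v * n * (u * v)⁻¹ * (u * n⁻¹ * u⁻¹)) * (n * (v * n⁻¹ * v⁻¹)) := fun u v => by
    unfold cm; group
  have hNi : ∀ x : G, x * n⁻¹ * x⁻¹ ∈ N := fun x =>
    Subgroup.Normal.conj_mem inferInstance _ (inv_mem hn) x
  rw [expand, expand, hgh, mul_assoc, mul_assoc (h * g * n * (h * g)⁻¹)]
  congr 1
  have c1 := c.max.comm _ (hNi g) _ (mul_mem hn (hNi h))
  have c2 := c.max.comm _ (hNi g) _ (hNi h)
  have c3 := c.max.comm _ (hNi g) _ hn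
  calc g * n⁻¹ * g⁻¹ * (n * (h * n⁻¹ * h⁻¹)) = n * (h * n⁻¹ * h⁻¹) * (g * n⁻¹ * g⁻¹) := c1
    _ = n * (g * n⁻¹ * g⁻¹ * (h * n⁻¹ * h⁻¹)) := by rw [mul_assoc, c2]
    _ = g * n⁻¹ * g⁻¹ * n * (h * n⁻¹ * h⁻¹) := by rw [← mul_assoc, c3]
    _ = h * n⁻¹ * h⁻¹ * (n * (g * n⁻¹ * g⁻¹)) := by
      rw [c3, mul_assoc, c2, ← mul_assoc, ← mul_assoc, c.max.comm _ hn _ (hNi h)]
      simp only [mul_assoc]

/-- All squares of `N` are `1` or `y * y`. -/
def SqOne (_c : Ctx A F N) (y : G) : Prop := ∀ n ∈ N, n ∈ F ∨ y⁻¹ * n ∈ F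

variable {y : G} (hy : y ∈ N) (hyF : y ∉ F) (hs : c.SqOne y)
include hy hyF hs

theorem sq_eq {n : G} (hn : n ∈ N) (hnF : n ∉ F) : n * n = y * y := by
  rcases hs n hn with h | h
  · exact absurd h hnF
  · obtain ⟨f, hf, rfl⟩ : ∃ f ∈ F, n = y * f := ⟨_, h, (mul_inv_cancel_left y n).symm⟩
    rw [Commute.mul_mul_mul_comm (c.max.comm _ (c.le hf) _ hy), ← pow_two f,
      c.mod.exp f hf, mul_one]

theorem sq_cases {n : G} (hn : n ∈ N) : n * n = 1 ∨ n * n = y * y := by
  by_cases hnF : n ∈ F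
  · exact Or.inl (by rw [← pow_two]; exact c.mod.exp n hnF)
  · exact Or.inr (c.sq_eq hy hyF hs hn hnF)

theorem q_ne : y * y ≠ 1 := fun e => hyF (c.omega hy (by rw [pow_two]; exact e))

theorem q_central (g : G) : g * (y * y) = y * y * g := by
  haveI := c.max.normal
  haveI := c.mod.normal
  have h1 := c.sq_eq hy hyF hs (Subgroup.Normal.conj_mem inferInstance y hy g) fun h => hyF (by
    simpa [mul_assoc] using Subgroup.Normal.conj_mem inferInstance _ h g⁻¹)
  rw [show g * y * g⁻¹ * (g * y * g⁻¹) = g * (y * y) * g⁻¹ by group, mul_inv_eq_iff_eq_mul] at h1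
  exact h1

theorem q_mem_I : y * y ∈ A ⊓ F :=
  c.mod.mem_I (c.sq_mem hy) fun a _ => c.q_central hy hyF hs a

theorem sq_mem_F {d : G} (hd : d ∈ centralizer (N : Set G)) (h : d * d ∈ F) :
    d * d = 1 ∨ d * d = y * y :=
  c.sq_cases hy hyF hs (c.mem_N hd (by
    rw [show (4 : ℕ) = 2 * 2 by rfl, pow_mul, pow_two d, c.mod.exp _ h]))

/-- `C / F` is cyclic and `C` is abelian. -/
theorem structure_C : (∀ d ∈ centralizer (N : Set G), ∀ e ∈ centralizer (N : Set G), d * e = e * d) ∧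
    ∃ b ∈ centralizer (N : Set G), ∀ d ∈ centralizer (N : Set G),
      ∃ i : ℤ, (b ^ i)⁻¹ * d ∈ F := by
  haveI : Fact (Nat.Prime 2) := ⟨Nat.prime_two⟩
  haveI := c.mod.normal
  set C := centralizer (N : Set G) with hC
  have hFC : F ≤ C := c.le.trans c.N_le_C
  have hc : ∀ x : C, x ^ 4 = 1 → ∀ z : C, x * z = z * x := fun x hx z =>
    Subtype.ext ((mem_centralizer_iff.1 z.2 _ (c.mem_N x.2 (by simpa using congrArg Subtype.val hx))))
  have hp : IsPGroup 2 C := c.two.to_subgroup C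
  set F' := F.subgroupOf C with hF'
  haveI : F'.Normal := normal_subgroupOf
  have hsq2 : ∀ x : C, x ^ 2 ∈ F' → x ^ 4 = 1 := fun x hx => Subtype.ext (by
    push_cast
    rw [show (4 : ℕ) = 2 * 2 by rfl, pow_mul]
    exact c.mod.exp _ (by simpa [hF', mem_subgroupOf] using hx))
  have hcm : ∀ x z : C, (x ^ 2) ^ 4 = 1 → x⁻¹ * z⁻¹ * x * z ∈ F' := fun x z hx => by
    have h1 := commutator_sq_eq_one hp hc hx z
    exact mem_subgroupOf.2 (c.mem_F (x⁻¹ * z⁻¹ * x * z).2 (by simpa using congrArg Subtype.val h1))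
  have hbound : ∀ M : Subgroup C, F' ≤ M → (∀ x : C, x * x ∈ M) → M.index ≤ 2 := by
    intro M hFM hM
    have h1 := card_elementary_quotient_le (Nat.card (C ⧸ F')) (D := C ⧸ F') le_rfl
      (hp.to_quotient F') (fun x hx z => by
        obtain ⟨a, rfl⟩ := QuotientGroup.mk_surjective x
        obtain ⟨b, rfl⟩ := QuotientGroup.mk_surjective z
        rw [← QuotientGroup.mk_mul, ← QuotientGroup.mk_mul, QuotientGroup.eq]
        have h4 : a ^ 4 ∈ F' := (QuotientGroup.eq_one_iff _).1 (by rw [QuotientGroup.mk_pow]; exact hx)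
        have h8 : (a ^ 2) ^ 4 = 1 := Subtype.ext (by
          push_cast
          rw [← pow_mul, show 2 * 4 = 4 * 2 by rfl, pow_mul]
          exact c.mod.exp _ (by simpa [hF', mem_subgroupOf] using h4))
        have h3 := inv_mem (hcm a b h8)
        simpa [mul_assoc] using h3)
      (M.map (QuotientGroup.mk' F')) (fun x => by
        obtain ⟨a, rfl⟩ := QuotientGroup.mk'_surjective F' x
        exact ⟨a * a, hM a, map_mul _ _ _⟩)
    rw [Subgroup.index_map_eq M (QuotientGroup.mk'_surjective F') (by rwa [QuotientGroup.ker_mk'])]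
      at h1
    refine h1.trans ?_
    -- at most two elements squaring to one
    let T : Bool → {x : C ⧸ F' // x ^ 2 = 1} := fun e =>
      if e then ⟨QuotientGroup.mk ⟨y, c.N_le_C hy⟩, by
        rw [← QuotientGroup.mk_pow, QuotientGroup.eq_one_iff, hF', mem_subgroupOf]
        push_cast
        rw [pow_two]
        exact c.sq_mem hy⟩
      else ⟨1, one_pow 2⟩
    have hT : Function.Surjective T := fun x => by
      obtain ⟨a, ha⟩ := QuotientGroup.mk_surjective x.1
      have h2 : a ^ 2 ∈ F' := (QuotientGroup.eq_one_iff _).1 (by rw [QuotientGroup.mk_pow, ha]; exact x.2)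
      have haN : (a : G) ∈ N := c.mem_N a.2 (by simpa using congrArg Subtype.val (hsq2 a h2))
      rcases hs _ haN with h3 | h3
      · refine ⟨false, Subtype.ext ?_⟩
        rw [← ha]
        show (1 : C ⧸ F') = QuotientGroup.mk a
        exact ((QuotientGroup.eq_one_iff a).2 (mem_subgroupOf.2 h3)).symm
      · refine ⟨true, Subtype.ext ?_⟩
        rw [← ha]
        simpa [T, QuotientGroup.eq, hF', mem_subgroupOf] using h3
    have := Nat.card_le_card_of_surjective T hT
    rwa [Nat.card_eq_fintype_card (α := Bool), Fintype.card_bool] at this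
  obtain ⟨b', hb'⟩ := exists_gen (Q := C ⧸ F') (hp.to_quotient F') fun M hM =>
    le_of_eq_of_le (index_comap_of_surjective M (QuotientGroup.mk'_surjective F')).symm
      (hbound (M.comap (QuotientGroup.mk' F')) (QuotientGroup.le_comap_mk' F' M) fun w => by
        rw [mem_comap, map_mul]; exact hM _)
  obtain ⟨b, rfl⟩ := QuotientGroup.mk_surjective b'
  have hdec : ∀ d ∈ C, ∃ i : ℤ, ((b : G) ^ i)⁻¹ * d ∈ F := fun d hd => by
    obtain ⟨i, hi⟩ := mem_zpowers_iff.1 (hb' (QuotientGroup.mk ⟨d, hd⟩))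
    refine ⟨i, ?_⟩
    rw [← QuotientGroup.mk_zpow, QuotientGroup.eq] at hi
    simpa [hF', mem_subgroupOf] using hi
  refine ⟨fun d hd e he => ?_, b, b.2, hdec⟩
  obtain ⟨i, hi⟩ := hdec d hd
  obtain ⟨j, hj⟩ := hdec e he
  have hcen : ∀ f ∈ F, ∀ z ∈ C, Commute f z := fun f hf z hz =>
    mem_centralizer_iff.1 hz f (c.le hf)
  rw [← mul_inv_cancel_left ((b : G) ^ i) d, ← mul_inv_cancel_left ((b : G) ^ j) e]
  exact ((((Commute.refl (b : G)).zpow_zpow i j)).mul_right (hcen _ hj _ (zpow_mem b.2 i)).symm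
    |>.mul_left ((hcen _ hi _ (zpow_mem b.2 j)).mul_right (hcen _ hi _ (hFC hj)))).eq

/-- `C` outside `N` forces the action on some element of order four. -/
theorem exists_rigid (hCN : ¬ centralizer (N : Set G) ≤ N) :
    ∃ n ∈ N, n ∉ F ∧ ∀ g : G, cm g n = 1 ∨ cm g n = y * y := by
  haveI := c.C_normal
  obtain ⟨d, hd, hdN⟩ := SetLike.not_le_iff_exists.1 hCN
  obtain ⟨k, ⟨j, hj⟩, ho⟩ := exists_pow_order_four c.two (fun e => hdN (c.mem_N hd e))
  set n := d ^ 2 ^ k with hn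
  have hnN : n ∈ N := c.mem_N (pow_mem hd _) (ho ▸ pow_orderOf_eq_one n)
  refine ⟨n, hnN, fun h => ?_, fun g => ?_⟩
  · have h2 := orderOf_dvd_iff_pow_eq_one.2 (c.mod.exp n h)
    rw [ho] at h2
    norm_num at h2
  have hu : d ^ j ∈ centralizer (N : Set G) := pow_mem hd j
  have hsplit : cm g n = cm g (d ^ j) * cm g (d ^ j) := by
    rw [hn, hj, pow_add]
    exact cm_mul_right ((c.structure_C hy hyF hs).1 _ hu _ (cm_mem g hu))
  rw [hsplit]
  refine c.sq_mem_F hy hyF hs (cm_mem g hu) (hsplit ▸ c.cm_mem_F hnN ?_)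
  rcases c.sq_cases hy hyF hs hnN with e | e <;> rw [e]
  · exact Commute.one_right g
  · exact c.q_central hy hyF hs g

/-- If the part inside `C` is large, every element of `M` there is a square. -/
theorem squares_of_large {R M : Subgroup G} (hsq : ∀ a ∈ R, a * a ∈ M)
    (h5 : 5 ≤ M.relIndex (R ⊓ centralizer (N : Set G))) :
    F ≤ R ∧ ∀ m ∈ M, m ∈ R ⊓ centralizer (N : Set G) →
      ∃ d ∈ R ⊓ centralizer (N : Set G), m = d * d := by
  set Fr := R ⊓ centralizer (N : Set G) with hFr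
  have hcomm := (c.structure_C hy hyF hs).1
  have hcen : ∀ x ∈ Fr, x ^ 4 = 1 → ∀ z ∈ Fr, x * z = z * x := fun x hx _ z hz =>
    hcomm x hx.2 z hz.2
  let D : Subgroup G :=
    { carrier := {m | ∃ d ∈ Fr, m = d * d}
      one_mem' := ⟨1, one_mem _, (one_mul 1).symm⟩
      mul_mem' := by
        rintro _ _ ⟨d, hd, rfl⟩ ⟨e, he, rfl⟩
        exact ⟨d * e, mul_mem hd he, Commute.mul_mul_mul_comm (hcomm d hd.2 e he.2) _ _⟩
      inv_mem' := by
        rintro _ ⟨d, hd, rfl⟩
        exact ⟨d⁻¹, inv_mem hd, mul_inv_rev d d⟩ }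
  have hDM : D ≤ M ⊓ Fr := by
    rintro _ ⟨d, hd, rfl⟩
    exact mem_inf.2 ⟨hsq d hd.1, mul_mem hd hd⟩
  refine ⟨?_, ?_⟩
  · have h1 : M.relIndex Fr ≤ Nat.card (R ⊓ F : Subgroup G) :=
      relIndex_le_omega c.two hcen (fun x hx => hsq x hx.1)
        fun x hx h2 => mem_inf.2 ⟨hx.1, c.mem_F hx.2 h2⟩
    have h2 := card_dvd_of_le (inf_le_right : R ⊓ F ≤ F)
    rw [c.cardF] at h2
    have h3 : Nat.card (R ⊓ F : Subgroup G) = 8 := by
      have h4 := Nat.le_of_dvd (by norm_num) h2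
      interval_cases hn : Nat.card (R ⊓ F : Subgroup G) <;> omega
    exact (eq_of_le_of_card_ge inf_le_right (by rw [h3, c.cardF]) : R ⊓ F = F) ▸ inf_le_left
  · intro m hm hmF
    have h1 : D.relIndex Fr ≤ Nat.card F := relIndex_le_omega (M := D) c.two hcen
      (fun x hx => ⟨x, hx, rfl⟩) fun x hx h2 => c.mem_F hx.2 h2
    by_contra hno
    have h2 : 2 ≤ D.relIndex (M ⊓ Fr) := two_le_relIndex (mem_inf.2 ⟨hm, hmF⟩) hno
    rw [c.cardF, ← relIndex_mul_relIndex D (M ⊓ Fr) Fr hDM inf_le_right, inf_relIndex_right] at h1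
    have := Nat.mul_le_mul h2 h5
    omega

end Ctx

end CfsgLib.PGroup.SelfCentEight
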