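import Cfsg.Agent.Lib.PGroup.SelfCentEight.Setting

/-!
# A normal elementary subgroup of order sixteen
-/

set_option autoImplicit false
set_option linter.unusedSectionVars false
set_option linter.style.haveILetI false

open Subgroup

namespace CfsgLib.PGroup.SelfCentEight

open CfsgLib.PGroup.FourGen

variable {G : Type*} [Group G]

namespace Mod

variable {A E : Subgroup G} (h : Mod A E)
include h

theorem fix_cm_of_mem {a x : G} (ha : a ∈ A) (hv : cm a x ∈ E) : a * cm a x = cm a x * a := by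
  have ha1 : a * a = 1 := by rw [← pow_two]; exact h.eight.exp a ha
  rw [← mul_inv_eq_iff_eq_mul]
  calc a * cm a x * a⁻¹ = a * a * x * (a * a)⁻¹ * (a * x⁻¹ * a⁻¹) := by unfold cm; group
    _ = (cm a x)⁻¹ := by rw [ha1]; unfold cm; group
    _ = cm a x := inv_eq_self (h.exp _ hv)

theorem cm_left_E (a : G) {e x : G} (he : e ∈ E) (hv : cm a x ∈ E) :
    cm a (e * x) = cm a e * cm a x :=
  cm_mul_right (h.e_comm he hv)

theorem relIndex_le_fix [Finite G] {R M : Subgroup G} (hsq : ∀ a ∈ R, a * a ∈ M) {r : G}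
    (hr : r ∈ R) : M.relIndex (R ⊓ E) ≤ Nat.card (h.fix r) := by
  haveI := h.normal
  let f : (R ⊓ E : Subgroup G) →* G := MonoidHom.mk' (fun d => cm r d) fun d e => by
    rw [Subgroup.coe_mul]; exact h.cm_hom r d.2.2 e.2.2
  have h1 : f.range ≤ M ⊓ (R ⊓ E) := by
    rintro _ ⟨d, rfl⟩
    exact mem_inf.2 ⟨commutator_mem_of_sq hsq hr d.2.1,
      mem_inf.2 ⟨R.mul_mem (R.mul_mem (R.mul_mem hr d.2.1) (R.inv_mem hr)) (R.inv_mem d.2.1),
        cm_mem r d.2.2⟩⟩
  have h2 : Nat.card f.ker ≤ Nat.card (h.fix r) :=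
    Nat.card_le_card_of_injective (fun d => (⟨d.1.1, h.mem_fix.2 ⟨d.1.2.2,
      (cm_eq_one_iff.1 (MonoidHom.mem_ker.1 d.2)).symm⟩⟩ : h.fix r))
      fun d e he => Subtype.ext (Subtype.ext (congrArg Subtype.val he :))
  have h3 := f.ker.card_mul_index
  rw [index_ker] at h3
  have h4 := ((M ⊓ (R ⊓ E)).subgroupOf (R ⊓ E)).index_mul_card
  rw [Nat.card_congr (subgroupOfEquivOfLe inf_le_right).toEquiv, ← h3] at h4
  have h5 : M.relIndex (R ⊓ E) = ((M ⊓ (R ⊓ E)).subgroupOf (R ⊓ E)).index :=
    (inf_relIndex_right M (R ⊓ E)).symm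
  rw [h5]
  refine Nat.le_of_mul_le_mul_right ?_ (Nat.card_pos (α := (M ⊓ (R ⊓ E) : Subgroup G)))
  rw [h4]
  exact Nat.mul_le_mul h2 (card_le_of_le h1)

theorem mem_of_four [Finite G] (hI : Nat.card (A ⊓ E : Subgroup G) = 4) {a x : G} (ha : a ∈ A)
    (haE : a ∉ E) (hxa : x * a = a * x) (hxI : ∀ i ∈ A ⊓ E, x * i = i * x) : x ∈ A := by
  refine h.eight.mem_of_comm fun c hc => ?_
  have h1 : A ⊓ E < A ⊓ centralizer ({x} : Set G) := by
    refine lt_of_le_of_ne (fun i hi => mem_inf.2 ⟨hi.1,
      mem_centralizer_singleton_iff.2 (hxI i hi).symm⟩) fun e => haE ?_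
    exact (e.ge (mem_inf.2 ⟨ha, mem_centralizer_singleton_iff.2 hxa.symm⟩)).2
  have hK : A ⊓ centralizer ({x} : Set G) = A := by
    refine eq_of_le_of_card_ge inf_le_left ?_
    have h2 := card_dvd_of_le h1.le
    have h3 : Nat.card (A ⊓ E : Subgroup G) ≠ Nat.card (A ⊓ centralizer ({x} : Set G) : Subgroup G) :=
      fun e => h1.ne (eq_of_le_of_card_ge h1.le e.ge)
    obtain ⟨m, hm⟩ := h2
    have h4 : 0 < Nat.card (A ⊓ centralizer ({x} : Set G) : Subgroup G) := Nat.card_pos
    rw [hI] at hm h3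
    rw [h.eight.card, hm]
    rcases m with _ | _ | m <;> omega
  exact mem_centralizer_singleton_iff.1 ((hK.ge hc).2)

variable [Finite G]

theorem exists_cm_eq (h16 : Nat.card E = 16) {a v : G} (ha : a ∈ A) (haE : a ∉ E) (hv : v ∈ E)
    (hva : a * v = v * a) : ∃ f ∈ E, cm a f = v := by
  haveI := h.normal
  let f : E →* G := MonoidHom.mk' (fun d => cm a d) fun d e => by
    rw [Subgroup.coe_mul]; exact h.cm_hom a d.2 e.2
  have h1 : f.range ≤ h.fix a := by
    rintro _ ⟨d, rfl⟩
    exact h.mem_fix.2 ⟨cm_mem a d.2, (h.cm_fix ha d.2).symm⟩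
  have h2 : Nat.card f.ker ≤ Nat.card (h.fix a) :=
    Nat.card_le_card_of_injective (fun d => (⟨d.1.1, h.mem_fix.2 ⟨d.1.2,
      (cm_eq_one_iff.1 (MonoidHom.mem_ker.1 d.2)).symm⟩⟩ : h.fix a))
      fun d e he => Subtype.ext (Subtype.ext (congrArg Subtype.val he :))
  have h3 := f.ker.card_mul_index
  rw [index_ker, h16] at h3
  have h4 := h.card_fix_eq ha haE h16.le
  have h5 : Nat.card (h.fix a) ≤ Nat.card f.range := by
    by_contra hlt
    have := Nat.mul_le_mul h2 (Nat.le_sub_one_of_lt (Nat.lt_of_not_le hlt))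
    rw [h4] at this
    omega
  have h6 : v ∈ f.range := (eq_of_le_of_card_ge h1 h5).ge (h.mem_fix.2 ⟨hv, hva.symm⟩)
  obtain ⟨d, hd⟩ := h6
  exact ⟨d, d.2, hd⟩

theorem adjust (h16 : Nat.card E = 16) {a s : G} (ha : a ∈ A) (haE : a ∉ E) (hs : cm a s ∈ E) :
    ∃ e ∈ E, a * (e * s) = e * s * a := by
  obtain ⟨e, he, he'⟩ := h.exists_cm_eq h16 ha haE hs (h.fix_cm_of_mem ha hs)
  refine ⟨e, he, cm_eq_one_iff.1 ?_⟩
  rw [h.cm_left_E a he hs, he', ← pow_two, h.exp _ hs]

theorem adjust_two (h16 : Nat.card E = 16) (hI : Nat.card (A ⊓ E : Subgroup G) = 2) {a b s : G}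
    (ha : a ∈ A) (hb : b ∈ A) (haE : a ∉ E) (hbE : b ∉ E) (habE : a * b ∉ E)
    (hsa : cm a s ∈ E) (hsb : cm b s ∈ E) : ∃ e ∈ E, e * s ∈ A := by
  haveI := h.normal
  obtain ⟨z, hz, hz1, hzc⟩ := h.exists_central
  have hIeq : ∀ i ∈ A ⊓ E, i = 1 ∨ i = z := fun i hi => by
    by_contra hno
    push Not at hno
    have h3 : 2 < Nat.card (A ⊓ E : Subgroup G) := by
      haveI := Fintype.ofFinite (A ⊓ E : Subgroup G)
      rw [Nat.card_eq_fintype_card, Fintype.two_lt_card_iff]
      exact ⟨1, ⟨z, hz⟩, ⟨i, hi⟩, fun e => hz1 (congrArg Subtype.val e).symm,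
        fun e => hno.1 (congrArg Subtype.val e).symm, fun e => hno.2 (congrArg Subtype.val e).symm⟩
    omega
  obtain ⟨e, he, hes⟩ := h.adjust h16 ha haE hsa
  have hwE : cm b (e * s) ∈ E := by
    rw [h.cm_left_E b he hsb]; exact mul_mem (cm_mem b he) hsb
  set w := cm b (e * s) with hw
  have hwI : w ∈ A ⊓ E := by
    refine ⟨h.mem_of_two ha hb haE hbE habE ?_ (h.fix_cm_of_mem hb hwE).symm
      (fun i hi => (h.e_comm hwE hi.2).eq), hwE⟩
    exact (mul_inv_eq_iff_eq_mul.1 (h.comm_cm hb ha (e * s) hes)).symm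
  obtain ⟨f, hf, hfa, hfw⟩ : ∃ f ∈ E, a * f = f * a ∧ cm b f = w := by
    rcases hIeq w hwI with hw1 | hwz
    · exact ⟨1, one_mem E, by simp, by rw [hw1]; simp [cm]⟩
    · have hlt : A ⊓ E < h.fix a := by
        refine lt_of_le_of_ne (fun i hi => h.mem_fix.2 ⟨hi.2, (h.eight.comm hi.1 ha).eq⟩) fun e' => ?_
        have h4 := h.card_fix_eq ha haE h16.le
        rw [← e', hI] at h4
        omega
      obtain ⟨f, hf, hfI⟩ := SetLike.exists_of_lt hlt
      obtain ⟨hfE, hfa⟩ := h.mem_fix.1 hf
      refine ⟨f, hfE, hfa.symm, ?_⟩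
      have h1 : cm b f ∈ A ⊓ E :=
        ⟨h.mem_of_two ha hb haE hbE habE (mul_inv_eq_iff_eq_mul.1 (h.comm_cm hb ha f hfa.symm)).symm
          (h.cm_fix hb hfE).symm (fun i hi => (h.e_comm (cm_mem b hfE) hi.2).eq), cm_mem b hfE⟩
      rcases hIeq _ h1 with h2 | h2
      · exact absurd ⟨h.mem_of_two ha hb haE hbE habE hfa (cm_eq_one_iff.1 h2).symm
          (fun i hi => (h.e_comm hfE hi.2).eq), hfE⟩ hfI
      · rw [h2, hwz]
  refine ⟨f * e, mul_mem hf he, h.mem_of_two ha hb haE hbE habE ?_ ?_ fun i hi => ?_⟩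
  · rw [mul_assoc f e s, mul_assoc, ← hes, ← mul_assoc f a, ← hfa, mul_assoc]
  · refine (cm_eq_one_iff.1 ?_).symm
    rw [mul_assoc, h.cm_left_E b hf hwE, hfw, ← hw, ← pow_two, h.exp _ hwE]
  · rcases hIeq i hi with rfl | rfl
    · rw [one_mul, mul_one]
    · exact hzc _

theorem X_eq (h16 : Nat.card E = 16) : centralizer (E : Set G) ≤ E := by
  haveI := h.normal
  haveI : (centralizer (E : Set G)).Normal := Subgroup.normal_centralizer
  by_contra hno
  obtain ⟨x, hx, hxE, -, hxc⟩ := exists_central_mod h.eight.two hno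
  obtain ⟨a, ha, haE⟩ := h.exists_outside
  have hEX : ∀ e ∈ E, e * x ∈ centralizer (E : Set G) := fun e he =>
    mul_mem (mem_centralizer_iff.2 fun d hd => (h.e_comm hd he).eq) hx
  have hout : ∀ e ∈ E, e * x ∉ A := fun e he hA => hxE (by
    have := h.mem_I_of_mem_X hA (hEX e he)
    simpa using mul_mem (inv_mem he) this)
  rcases h.card_I with hI | hI
  · obtain ⟨b, hb, hbE, habE⟩ := h.exists_pair hI ha
    obtain ⟨e, he, heA⟩ := h.adjust_two h16 hI ha hb haE hbE habE (hxc a) (hxc b)
    exact hout e he heA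
  · obtain ⟨e, he, hec⟩ := h.adjust h16 ha haE (hxc a)
    exact hout e he (h.mem_of_four hI ha haE hec.symm fun i hi =>
      (mem_centralizer_iff.1 (hEX e he) i hi.2).symm)

/-- **The bound.** -/
theorem relIndex_le (h16 : Nat.card E = 16) {R M : Subgroup G} (hM : M ≤ R)
    (hsq : ∀ a ∈ R, a * a ∈ M) : M.relIndex R ≤ 16 := by
  haveI : Fact (Nat.Prime 2) := ⟨Nat.prime_two⟩
  haveI := h.normal
  set π := QuotientGroup.mk' E with hπ
  have hQ := h.eight.two.to_quotient E
  obtain ⟨a, ha, haE⟩ := h.exists_outside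
  obtain ⟨z, hz, hz1, hzc⟩ := h.exists_central
  have hπcm : ∀ c s : G, π c * π s = π s * π c → cm c s ∈ E := fun c s hcs => by
    refine (QuotientGroup.eq_one_iff _).1 ?_
    show π (c * s * c⁻¹ * s⁻¹) = 1
    rw [map_mul, map_mul, map_mul, map_inv, map_inv, hcs]
    group
  have hπne : ∀ g : G, π g ≠ 1 → g ∉ E := fun g hg hgE => hg ((QuotientGroup.eq_one_iff _).2 hgE)
  obtain ⟨⟨x, hx⟩, hgood⟩ : (∃ x : G ⧸ E, Nat.card (centralizer ({x} : Set (G ⧸ E))) ≤ 4) ∧
      ∀ g : G, π g ≠ 1 → (∀ y, π g * π y = π y * π g) → Nat.card (h.fix g) ≤ 4 := by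
    rcases h.card_I with hI | hI
    · obtain ⟨b, hb, hbE, habE⟩ := h.exists_pair hI ha
      refine ⟨exists_small_centralizer hQ (B := A.map π) ?_ ?_, fun g hg hgc => ?_⟩
      · have h1 := (E.subgroupOf A).index_mul_card
        rw [← inf_subgroupOf_left, Nat.card_congr (subgroupOfEquivOfLe inf_le_left).toEquiv, hI,
          h.eight.card, inf_subgroupOf_left] at h1
        have h2 : Nat.card (A.map π) = (E.subgroupOf A).index := by
          rw [← relIndex_bot_left (A.map π), ← relIndex_comap, MonoidHom.comap_bot, hπ,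
            QuotientGroup.ker_mk', relIndex]
        omega
      · intro y hy
        obtain ⟨s, rfl⟩ := QuotientGroup.mk'_surjective E y
        obtain ⟨e, he, heA⟩ := h.adjust_two h16 hI ha hb haE hbE habE
          (hπcm a s (mem_centralizer_iff.1 hy _ ⟨a, ha, rfl⟩))
          (hπcm b s (mem_centralizer_iff.1 hy _ ⟨b, hb, rfl⟩))
        refine ⟨e * s, heA, ?_⟩
        rw [map_mul, show π e = 1 from (QuotientGroup.eq_one_iff _).2 he, one_mul]
      · obtain ⟨e, he, heA⟩ := h.adjust_two h16 hI ha hb haE hbE habE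
          (hπcm a g (hgc a).symm) (hπcm b g (hgc b).symm)
        have h1 : e * g ∉ E := fun h' => hπne g hg (by simpa using mul_mem (inv_mem he) h')
        refine le_trans ?_ (h.card_fix_eq heA h1 h16.le).le
        refine card_le_of_le fun f hf => ?_
        obtain ⟨hfE, hfg⟩ := h.mem_fix.1 hf
        refine h.mem_fix.2 ⟨hfE, ?_⟩
        rw [← mul_assoc, (h.e_comm hfE he).eq, mul_assoc, hfg, ← mul_assoc]
    · have hCI : ∀ s : G, s * a = a * s → ∀ i ∈ A ⊓ E, s * i * s⁻¹ ∈ A ⊓ E := fun s hs i hi => by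
        rw [← h.fix_eq_of_four hI ha haE] at hi ⊢
        obtain ⟨hiE, hia⟩ := h.mem_fix.1 hi
        refine h.mem_fix.2 ⟨Subgroup.Normal.conj_mem inferInstance i hiE s, ?_⟩
        have h1 : s⁻¹ * a = a * s⁻¹ := ((show Commute s a from hs).inv_left).eq
        calc s * i * s⁻¹ * a = s * i * (s⁻¹ * a) := by group
          _ = s * (i * a) * s⁻¹ := by rw [h1]; group
          _ = (s * a) * i * s⁻¹ := by rw [hia]; group
          _ = a * (s * i * s⁻¹) := by rw [hs]; group
      obtain ⟨c, hc, hc1, hcz⟩ := exists_third hI z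
      have hfour : ∀ i ∈ A ⊓ E, i = 1 ∨ i = z ∨ i = c ∨ i = z * c := fun i hi =>
        four_elems hI (fun e he => h.exp e he.2) hz hc hz1 hc1 hcz hi
      have hcent : ∀ s : G, s * a = a * s → s * c = c * s → s ∈ A := fun s hs hsc =>
        h.mem_of_four hI ha haE hs fun i hi => by
          rcases hfour i hi with rfl | rfl | rfl | rfl
          · rw [one_mul, mul_one]
          · exact hzc s
          · exact hsc
          · rw [← mul_assoc, hzc, mul_assoc, hsc, mul_assoc]
      refine ⟨⟨π a, ?_⟩, fun g hg hgc => ?_⟩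
      · set Ca := centralizer ({a} : Set G) with hCa
        have h1 : centralizer ({π a} : Set (G ⧸ E)) ≤ Ca.map π := by
          intro y hy
          obtain ⟨s, rfl⟩ := QuotientGroup.mk'_surjective E y
          obtain ⟨e, he, hes⟩ := h.adjust h16 ha haE
            (hπcm a s (mem_centralizer_singleton_iff.1 hy).symm)
          refine ⟨e * s, mem_centralizer_singleton_iff.2 hes.symm, ?_⟩
          rw [map_mul, show π e = 1 from (QuotientGroup.eq_one_iff _).2 he, one_mul]
        have hA2 : A.relIndex Ca ≤ 2 := by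
          classical
          refine (relIndex_le_of_map (fun s => s * c * s⁻¹) {c, z * c} (fun s hs => ?_)
            fun s hs t ht e => ?_).trans Finset.card_le_two
          · rcases hfour _ (hCI s (mem_centralizer_singleton_iff.1 hs) c hc) with e | e | e | e
            · exact absurd (conj_eq_one_iff.1 e) hc1
            · refine absurd ?_ hcz
              have h2 : s * z * s⁻¹ = z := by rw [hzc, mul_inv_cancel_right]
              exact mul_left_cancel (mul_right_cancel (e.trans h2.symm))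
            · simp [e]
            · simp [e]
          · refine hcent _ (mem_centralizer_singleton_iff.1 (Ca.mul_mem (Ca.inv_mem hs) ht)) ?_
            calc s⁻¹ * t * c = s⁻¹ * (t * c * t⁻¹) * t := by group
              _ = s⁻¹ * (s * c * s⁻¹) * t := by rw [e]
              _ = c * (s⁻¹ * t) := by group
        have h3 : Nat.card (Ca.map π) * 4 ≤ 16 := by
          have e1 := (E.subgroupOf Ca).index_mul_card
          have e2 : Nat.card (Ca.map π) = (E.subgroupOf Ca).index := by
            rw [← relIndex_bot_left (Ca.map π), ← relIndex_comap, MonoidHom.comap_bot, hπ,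
              QuotientGroup.ker_mk', relIndex]
          have e3 : 4 ≤ Nat.card (E.subgroupOf Ca) := by
            rw [← inf_subgroupOf_left, Nat.card_congr (subgroupOfEquivOfLe inf_le_left).toEquiv]
            rw [← hI]
            exact card_le_of_le fun i hi => mem_inf.2
              ⟨mem_centralizer_singleton_iff.2 (h.eight.comm hi.1 ha).eq, hi.2⟩
          have e4 := (A.subgroupOf Ca).index_mul_card
          rw [Nat.card_congr (subgroupOfEquivOfLe (show A ≤ Ca from fun x hx =>
            mem_centralizer_singleton_iff.2 (h.eight.comm hx ha).eq)).toEquiv, h.eight.card] at e4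
          have e5 : (A.subgroupOf Ca).index ≤ 2 := hA2
          rw [e2]
          calc (E.subgroupOf Ca).index * 4 ≤ (E.subgroupOf Ca).index * Nat.card (E.subgroupOf Ca) :=
                Nat.mul_le_mul_left _ e3
            _ ≤ 16 := by rw [e1, ← e4]; omega
        have := card_le_of_le h1
        omega
      · obtain ⟨e, he, hes⟩ := h.adjust h16 ha haE (hπcm a g (hgc a).symm)
        have h1 : e * g ∉ E := fun h' => hπne g hg (by simpa using mul_mem (inv_mem he) h')
        have hfix : h.fix g ≤ h.fix (e * g) := fun f hf => by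
          obtain ⟨hfE, hfg⟩ := h.mem_fix.1 hf
          refine h.mem_fix.2 ⟨hfE, ?_⟩
          rw [← mul_assoc, (h.e_comm hfE he).eq, mul_assoc, hfg, ← mul_assoc]
        refine (card_le_of_le hfix).trans ?_
        by_cases hA : e * g ∈ A
        · exact (h.card_fix_eq hA h1 h16.le).le
        -- `g` moves an element of `A ∩ E`
        let K : Subgroup G := zpowers z
        have hK2 : Nat.card K = 2 := by
          rw [Nat.card_zpowers, orderOf_eq_prime (h.exp z hz.2) hz1]
        have hIK : ∀ i ∈ A ⊓ E, i * (e * g) = e * g * i → i ∈ K := fun i hi hig => by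
          have hz' : z * (e * g) = e * g * z := (hzc _).symm
          rcases hfour i hi with rfl | rfl | rfl | rfl
          · exact one_mem K
          · exact mem_zpowers _
          · exact absurd (hcent _ hes.symm hig.symm) hA
          · refine absurd (hcent _ hes.symm ?_) hA
            have h5 : z * (c * (e * g)) = z * (e * g * c) := by
              rw [← mul_assoc, hig, ← mul_assoc, ← mul_assoc, hz', mul_assoc]
            exact (mul_left_cancel h5).symm
        let f : h.fix (e * g) →* G := MonoidHom.mk' (fun d => cm a d) fun d d' => by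
          rw [Subgroup.coe_mul]; exact h.cm_hom a (h.mem_fix.1 d.2).1 (h.mem_fix.1 d'.2).1
        have h2 : f.range ≤ K := by
          rintro _ ⟨⟨d, hd⟩, rfl⟩
          obtain ⟨hdE, hdg⟩ := h.mem_fix.1 hd
          refine hIK _ ?_ ?_
          · rw [← h.fix_eq_of_four hI ha haE]
            exact h.mem_fix.2 ⟨cm_mem a hdE, (h.cm_fix ha hdE).symm⟩
          · show cm a d * (e * g) = e * g * cm a d
            refine ((Commute.mul_left (Commute.mul_left (Commute.mul_left ?_ ?_) ?_) ?_)).eq
            exacts [hes, hdg, (show Commute a (e * g) from hes).inv_left,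
              (show Commute d (e * g) from hdg).inv_left]
        have h3 : Nat.card f.ker ≤ Nat.card K :=
          Nat.card_le_card_of_injective (fun d => (⟨d.1.1, hIK _ (by
            rw [← h.fix_eq_of_four hI ha haE]
            exact h.mem_fix.2 ⟨(h.mem_fix.1 d.1.2).1,
              (cm_eq_one_iff.1 (MonoidHom.mem_ker.1 d.2)).symm⟩) (h.mem_fix.1 d.1.2).2⟩ : K))
            fun d d' he => Subtype.ext (Subtype.ext (congrArg Subtype.val he :))
        have h4 := f.ker.card_mul_index
        rw [index_ker] at h4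
        rw [← h4]
        exact (Nat.mul_le_mul h3 (card_le_of_le h2)).trans (by rw [hK2])
  set q := (M.map π).relIndex (R.map π) with hq
  have hmain : M.relIndex R ≤ q * M.relIndex (R ⊓ E) := relIndex_le_map_mul hM
  have hq4 : q ≤ 4 := relIndex_le_four hQ hx (map_sq hsq)
  have hi16 : M.relIndex (R ⊓ E) ≤ 16 :=
    relIndex_le_card.trans (h16 ▸ card_le_of_le inf_le_right)
  rcases Nat.lt_or_ge q 2 with hq1 | hq2
  · have := Nat.mul_le_mul (Nat.le_of_lt_succ hq1) hi16
    omega
  rcases Nat.lt_or_ge q 3 with hq3 | hq3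
  · -- some element of `R` acts nontrivially
    obtain ⟨r, hr, hrE⟩ : ∃ r ∈ R, r ∉ E := by
      by_contra hno
      push Not at hno
      have : q = 1 := by
        rw [hq, relIndex_eq_one]
        rintro _ ⟨r, hr, rfl⟩
        rw [show π r = 1 from (QuotientGroup.eq_one_iff _).2 (hno r hr)]
        exact one_mem _
      omega
    have hlt : h.fix r < E := lt_of_le_of_ne inf_le_left fun e => hrE (h.X_eq h16
      (mem_centralizer_iff.2 fun f hf => (h.mem_fix.1 (e.ge hf)).2))
    have h8 : Nat.card (h.fix r) ≤ 8 := by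
      obtain ⟨m, hm⟩ := card_dvd_of_le hlt.le
      have h3 : Nat.card (h.fix r) ≠ Nat.card E := fun e => hlt.ne (eq_of_le_of_card_ge hlt.le e.ge)
      rw [h16] at hm h3
      rcases m with _ | _ | m
      · omega
      · omega
      · have := Nat.mul_le_mul_left (Nat.card (h.fix r)) (show 2 ≤ m + 1 + 1 by omega)
        omega
    have := Nat.mul_le_mul (Nat.le_of_lt_succ hq3) ((h.relIndex_le_fix hsq hr).trans h8)
    omega
  · -- `R` covers a central involution of `G/E`
    haveI : Nontrivial (G ⧸ E) := ⟨⟨π a, 1, fun e => haE ((QuotientGroup.eq_one_iff _).1 e)⟩⟩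
    obtain ⟨ζ, -, hζo, hζc⟩ := Invol.exists_fixed_of_normalized (p := 2) (P := (⊤ : Subgroup (G ⧸ E)))
      (hQ.to_subgroup ⊤) (hQ.to_subgroup ⊤) (by simp) (le_of_le_of_eq le_top
        (Subgroup.normalizer_eq_top_iff.2 inferInstance).symm)
    have hζ : ∀ y, y * ζ = ζ * y := fun y => mem_centralizer_singleton_iff.1 (hζc (mem_top y))
    have hmemR : ζ ∈ R.map π := by
      by_contra hζR
      haveI hζn : (zpowers ζ).Normal := ⟨fun n hn g => by
        obtain ⟨i, rfl⟩ := mem_zpowers_iff.1 hn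
        rw [((show Commute g ζ from hζ g).zpow_right i).eq, mul_inv_cancel_right]
        exact zpow_mem (mem_zpowers ζ) i⟩
      set R' := R.map π ⊔ zpowers ζ with hR'
      have h1 : (M.map π).relIndex R' ≤ 4 := relIndex_le_four hQ hx fun y hy => by
        obtain ⟨r, hr, w, hw, rfl⟩ := mem_sup_of_normal_right.1 hy
        obtain ⟨i, rfl⟩ := mem_zpowers_iff.1 hw
        have h3 : Commute r (ζ ^ i) := (show Commute r ζ from hζ r).zpow_right i
        rw [h3.symm.mul_mul_mul_comm, ← zpow_add, show i + i = (orderOf ζ : ℤ) * i by rw [hζo]; push_cast; ring,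
          zpow_mul, zpow_natCast, pow_orderOf_eq_one, one_zpow, mul_one]
        exact map_sq hsq r hr
      have h2 : 2 ≤ (R.map π).relIndex R' :=
        two_le_relIndex (mem_sup_right (mem_zpowers ζ)) hζR
      have h3 := relIndex_mul_relIndex (M.map π) (R.map π) R' (map_mono hM) le_sup_left
      have := Nat.mul_le_mul_left q h2
      rw [← hq] at h3
      omega
    obtain ⟨r, hr, hrζ⟩ := hmemR
    have h4 : Nat.card (h.fix r) ≤ 4 := hgood r
      (fun e => by rw [hrζ] at e; rw [e, orderOf_one] at hζo; norm_num at hζo)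
      (fun y => by rw [hrζ]; exact (hζ _).symm)
    have := Nat.mul_le_mul hq4 ((h.relIndex_le_fix hsq hr).trans h4)
    omega

end Mod

end CfsgLib.PGroup.SelfCentEight
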