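import Cfsg.Agent.Lib.PGroup.SelfCentEight.BoundTwo
import Cfsg.Agent.Lib.PGroup.SelfCentEight.CaseOne
import Cfsg.Agent.Lib.PGroup.SelfCentEight.Flag
import Cfsg.Agent.Lib.PGroup.SelfCentEight.Sixteen
import Cfsg.Agent.Lib.PGroup.FourGen.Sectional

/-!
# 2-groups with a self-centralising elementary subgroup of order eight

`sectional_of_eight`: they have sectional rank at most four (Harada).
-/

set_option autoImplicit false
set_option linter.unusedSectionVars false
set_option linter.style.haveILetI false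

open Subgroup

namespace CfsgLib.PGroup.SelfCentEight

open CfsgLib.PGroup.FourGen

variable {G : Type*} [Group G] [Finite G]

/-- A self-centralising normal subgroup of order eight and exponent two gives the bound. -/
theorem relIndex_le_self (hG : IsPGroup 2 G) {F : Subgroup G} (hF : F.Normal)
    (h2 : ∀ f ∈ F, f ^ 2 = 1) (h8 : Nat.card F = 8) (hC : centralizer (F : Set G) = F)
    {R M : Subgroup G} (hM : M ≤ R) (hsq : ∀ a ∈ R, a * a ∈ M) : M.relIndex R ≤ 16 := by
  haveI := hF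
  have hmain := relIndex_le_map_mul (C := F) hM
  have hq : (M.map (QuotientGroup.mk' F)).relIndex (R.map (QuotientGroup.mk' F)) ≤ 4 :=
    relIndex_flag hG hF h2 h8 hC.symm hsq
  have hd : M.relIndex (R ⊓ F) ∣ 8 := by
    rw [← h8]
    exact (index_dvd_card _).trans (card_dvd_of_le inf_le_right)
  rcases Nat.lt_or_ge (M.relIndex (R ⊓ F)) 5 with hi | hi
  · have := Nat.mul_le_mul hq (Nat.le_of_lt_succ hi)
    omega
  · have hi8 : M.relIndex (R ⊓ F) = 8 := by
      have h4 := Nat.le_of_dvd (by norm_num) hd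
      interval_cases hn : M.relIndex (R ⊓ F) <;> omega
    have hbot : ∀ m ∈ M, m ∈ R ⊓ F → m = 1 := by
      intro m hm hmF
      by_contra hm1
      have h1 := (M.subgroupOf (R ⊓ F)).index_mul_card
      have h3 : 1 < Nat.card (M.subgroupOf (R ⊓ F)) := by
        rw [Finite.one_lt_card_iff_nontrivial, Subgroup.nontrivial_iff_exists_ne_one]
        exact ⟨⟨m, hmF⟩, mem_subgroupOf.2 hm, fun e => hm1 (congrArg Subtype.val e)⟩
      have h5 := Nat.le_of_dvd (by norm_num) (h8 ▸ card_dvd_of_le (inf_le_right : R ⊓ F ≤ F))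
      rw [show (M.subgroupOf (R ⊓ F)).index = M.relIndex (R ⊓ F) from rfl, hi8] at h1
      omega
    have hFR : F ≤ R := by
      have h5 : 8 ≤ Nat.card (R ⊓ F : Subgroup G) := hi8 ▸ relIndex_le_card
      exact (eq_of_le_of_card_ge inf_le_right (h8 ▸ h5) : R ⊓ F = F) ▸ inf_le_left
    have hRF : R ≤ F := fun r hr => by
      rw [← hC]
      refine mem_centralizer_iff.2 fun f hf => ?_
      have hmem : r * f * r⁻¹ * f⁻¹ ∈ R ⊓ F := mem_inf.2
        ⟨R.mul_mem (R.mul_mem (R.mul_mem hr (hFR hf)) (R.inv_mem hr)) (R.inv_mem (hFR hf)),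
          mul_mem (hF.conj_mem f hf r) (inv_mem hf)⟩
      have h := hbot _ (commutator_mem_of_sq hsq hr (hFR hf)) hmem
      exact (cm_eq_one_iff.1 h).symm
    rw [inf_eq_left.2 hRF] at hi8
    omega

/-- The bound. -/
theorem relIndex_le_of_eight {A : Subgroup G} (hA : Eight A) {R M : Subgroup G} (hM : M ≤ R)
    (hsq : ∀ a ∈ R, a * a ∈ M) : M.relIndex R ≤ 16 := by
  haveI : Fact (Nat.Prime 2) := ⟨Nat.prime_two⟩
  by_cases h8 : NoEight G
  · exact relIndex_le_sixteen hA.two h8 hsq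
  unfold NoEight at h8
  push Not at h8
  obtain ⟨E, hEn, hE2, hE4⟩ := h8
  have hE8 : 8 ≤ Nat.card E := by
    obtain ⟨k, hk⟩ := IsPGroup.iff_card.1 (hA.two.to_subgroup E)
    have hk3 : 3 ≤ k := by
      by_contra hlt
      rw [hk] at hE4
      interval_cases k <;> omega
    rw [hk]
    exact Nat.pow_le_pow_right two_pos hk3
  by_cases h16 : ∃ B : Subgroup G, B.Normal ∧ (∀ b ∈ B, b ^ 2 = 1) ∧ 16 ≤ Nat.card B
  · obtain ⟨B, hBn, hB2, hB⟩ := h16
    haveI := hBn
    obtain ⟨T, hTn, hTB, hT⟩ := RankFour.exists_normal_card hA.two (A := B) 4 hB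
    exact Mod.relIndex_le (A := A) (E := T) ⟨hA, hTn, fun e he => hB2 e (hTB he), by omega,
      fun e => by rw [e, hA.card] at hT; omega⟩ hT hM hsq
  push Not at h16
  haveI := hEn
  obtain ⟨F, hFn, hFE, hF⟩ := RankFour.exists_normal_card hA.two (A := E) 3 hE8
  have hF2 : ∀ f ∈ F, f ^ 2 = 1 := fun f hf => hE2 f (hFE hf)
  have hFc : ∀ a ∈ F, ∀ b ∈ F, a * b = b * a := fun a ha b hb => (sq_comm hF2 ha hb).eq
  obtain ⟨N, hFN, ⟨hN1, hN2, hN3⟩, hN4⟩ := Finite.exists_le_maximal
    (p := fun B : Subgroup G => B.Normal ∧ (∀ a ∈ B, ∀ b ∈ B, a * b = b * a) ∧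
      ∀ a ∈ B, a ^ 4 = 1) (a := F) ⟨hFn, hFc, fun a ha => by
        rw [show (4 : ℕ) = 2 * 2 by rfl, pow_mul, hF2 a ha, one_pow]⟩
  have hmax : MaxFour N :=
    ⟨hN1, hN2, hN3, fun B hB hc he hle => le_antisymm (hN4 ⟨hB, hc, he⟩ hle) hle⟩
  have hF8 : Nat.card F = 8 := hF
  by_cases hFA : F = A
  · subst hFA
    exact relIndex_le_self hA.two hFn hF2 hF8 hA.cent hM hsq
  by_cases hNF : N ≤ F
  · have hNeq : N = F := le_antisymm hNF hFN
    subst hNeq
    refine relIndex_le_self hA.two hFn hF2 hF8 (le_antisymm (fun x hx => ?_)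
      fun a ha => mem_centralizer_iff.2 fun b hb => hFc b hb a ha) hM hsq
    refine hmax.mem_of_pow_four hA.two hx ?_
    by_contra h4
    obtain ⟨k, -, hk⟩ := exists_pow_order_four hA.two h4
    have h1 := hmax.mem_of_pow_four hA.two (pow_mem hx (2 ^ k))
      (orderOf_dvd_iff_pow_eq_one.1 (dvd_of_eq hk))
    have h2 := orderOf_dvd_iff_pow_eq_one.2 (hF2 _ h1)
    rw [hk] at h2
    exact absurd h2 (by norm_num)
  have hctx : Ctx A F N := ⟨⟨hA, hFn, hF2, hF8.ge, hFA⟩, hF8, fun B hB hB2 => by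
    obtain ⟨k, hk⟩ := IsPGroup.iff_card.1 (hA.two.to_subgroup B)
    have h3 := h16 B hB hB2
    rw [hk] at h3 ⊢
    have : k < 4 := by
      by_contra hge
      have := Nat.pow_le_pow_right two_pos (Nat.le_of_not_lt hge)
      omega
    interval_cases k <;> norm_num, hmax, hFN⟩
  rcases hctx.mod.card_I with hI | hI
  · obtain ⟨y, hy, hyF, hs, hq⟩ := hctx.exists_y_one hI hNF
    exact hctx.relIndex_le_one hI hy hyF hs hq hM hsq
  · obtain ⟨a, c₀, y, T⟩ := hctx.exists_two hI hNF
    exact T.relIndex_le hM hsq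

/-- **Harada.** A 2-group with a self-centralising elementary abelian subgroup of order eight has
sectional rank at most four. -/
theorem sectional_of_eight {A : Subgroup G} (hA : Eight A) : Cfsg.SectionalPRankLE 2 4 G :=
  sectional_of_top hA.two fun _ _ hM hsq => relIndex_le_of_eight hA hM hsq

end CfsgLib.PGroup.SelfCentEight
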