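import Cfsg.Agent.Lib.PGroup.SelfCentEight.Main
import Mathlib.GroupTheory.SpecificGroups.Quaternion

/-!
# A central product of two quaternion groups containing its centraliser

`sectional_of_quaternion_pair`: some elementary subgroup of order eight of the product is
self-centralising, so the sectional rank is at most four.
-/

set_option autoImplicit false
set_option linter.unusedSectionVars false
set_option linter.style.haveILetI false

open Subgroup

namespace CfsgLib.PGroup.SelfCentEight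

open QuaternionGroup

/-- The quaternion group of order eight. -/
abbrev QEight := QuaternionGroup 2

/-- The central involution. -/
def qz : QEight := a 2

/-- The automorphism of order three. -/
def qalphaFun : QEight → QEight
  | a i => xa 0 ^ i.val
  | xa i => a 1 * xa 0 * xa 0 ^ i.val

theorem qalphaFun_spec :
    (∀ u v, qalphaFun (u * v) = qalphaFun u * qalphaFun v) ∧
      ∀ u, qalphaFun (qalphaFun (qalphaFun u)) = u := by decide

/-- The automorphism of order three as a homomorphism. -/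
def qalpha : QEight →* QEight := MonoidHom.mk' qalphaFun qalphaFun_spec.1

theorem qalpha_cube (u : QEight) : qalpha (qalpha (qalpha u)) = u := qalphaFun_spec.2 u

/-- The preimage of a diagonal elementary subgroup of order eight. -/
def qdiag : Subgroup (QEight × QEight) where
  carrier := {p | p.2 = p.1 ∨ p.2 = qz * p.1}
  one_mem' := Or.inl rfl
  mul_mem' := fun {p q} hp hq =>
    (by decide +kernel : ∀ s t u v : QEight, (t = s ∨ t = qz * s) → (v = u ∨ v = qz * u) →
      t * v = s * u ∨ t * v = qz * (s * u)) p.1 p.2 q.1 q.2 hp hq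
  inv_mem' := fun {p} hp =>
    (by decide +kernel : ∀ s t : QEight, (t = s ∨ t = qz * s) → t⁻¹ = s⁻¹ ∨ t⁻¹ = qz * s⁻¹) p.1 p.2 hp

theorem mem_qdiag {p : QEight × QEight} : p ∈ qdiag ↔ p.2 = p.1 ∨ p.2 = qz * p.1 := Iff.rfl

instance : DecidablePred (· ∈ qdiag) := fun p =>
  inferInstanceAs (Decidable (p.2 = p.1 ∨ p.2 = qz * p.1))

theorem card_qdiag : Nat.card qdiag = 16 := by
  rw [Nat.card_eq_fintype_card]
  decide +kernel

/-- Membership in the kernel of the product map. -/
def InKer (p : QEight × QEight) : Prop := p = 1 ∨ p = (qz, qz)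

instance (p : QEight × QEight) : Decidable (InKer p) :=
  inferInstanceAs (Decidable (p = 1 ∨ p = (qz, qz)))

variable {S : Type*} [Group S]

/-- A presentation of a self-centralising product of two quaternion groups. -/
structure Pair (Q : Subgroup S) (φ : QEight × QEight →* S) : Prop where
  range : ∀ x, x ∈ Q ↔ ∃ p, φ p = x
  ker : ∀ p, φ p = 1 ↔ InKer p
  cent : centralizer (Q : Set S) ≤ Q

namespace Pair

variable {Q : Subgroup S} {φ : QEight × QEight →* S} (P : Pair Q φ)
include P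

theorem eq_iff {p q : QEight × QEight} : φ p = φ q ↔ InKer (p * q⁻¹) := by
  rw [← P.ker, map_mul, map_inv, mul_inv_eq_one]

theorem fst_inj {u v : QEight} (h : φ (u, 1) = φ (v, 1)) : u = v :=
  (by decide +kernel : ∀ u v : QEight, InKer ((u, 1) * (v, 1)⁻¹) → u = v) u v (P.eq_iff.1 h)

/-- Conjugation of the presentation by `c`. -/
def conjHom (φ : QEight × QEight →* S) (c : S) : QEight × QEight →* S :=
  (MulAut.conj c).toMonoidHom.comp φ

omit P in
theorem conjHom_apply (c : S) (p : QEight × QEight) : conjHom φ c p = c * φ p * c⁻¹ := rfl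

/-- An element fixing the diagonal moves each generator to one of four values. -/
theorem image_cases {c : S} (hn : ∀ x ∈ Q, c * x * c⁻¹ ∈ Q)
    (hc : ∀ p ∈ qdiag, conjHom φ c p = φ p) {g : QEight} (hg : g = a 1 ∨ g = xa 0) :
    ∃ e : QEight, (e = g ∨ e = qz * g) ∧
      (conjHom φ c (g, 1) = φ (e, 1) ∨ conjHom φ c (g, 1) = φ (1, e)) := by
  obtain ⟨x, hx⟩ : ∃ x, φ x = conjHom φ c (g, 1) :=
    (P.range _).1 (hn _ ((P.range _).2 ⟨(g, 1), rfl⟩))
  have hsq : InKer (x * x * ((g, 1) * (g, 1))⁻¹) := P.eq_iff.1 (by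
    rw [map_mul, hx, ← map_mul, hc _ ((by decide +kernel : ∀ g : QEight, (g = a 1 ∨ g = xa 0) →
      ((g, 1) : QEight × QEight) * (g, 1) ∈ qdiag) g hg)])
  have hcomm : ∀ h : QEight, InKer (x * (h, h) * x⁻¹ * (h, h)⁻¹ *
      ((g, 1) * (h, h) * (g, 1)⁻¹ * (h, h)⁻¹)⁻¹) := fun h => P.eq_iff.1 (by
    rw [map_mul, map_mul, map_mul, hx, map_inv, map_inv, hx, ← hc (h, h) (Or.inl rfl),
      ← map_inv, ← map_inv, ← map_mul, ← map_mul, ← map_mul,
      hc _ ((by decide +kernel : ∀ g h : QEight,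
        ((g, 1) : QEight × QEight) * (h, h) * (g, 1)⁻¹ * (h, h)⁻¹ ∈ qdiag) g h)])
  have key : ∀ x : QEight × QEight, ∀ g : QEight, (g = a 1 ∨ g = xa 0) →
      InKer (x * x * ((g, 1) * (g, 1))⁻¹) →
      InKer (x * (a 1, a 1) * x⁻¹ * (a 1, a 1)⁻¹ *
        ((g, 1) * (a 1, a 1) * (g, 1)⁻¹ * (a 1, a 1)⁻¹)⁻¹) →
      InKer (x * (xa 0, xa 0) * x⁻¹ * (xa 0, xa 0)⁻¹ *
        ((g, 1) * (xa 0, xa 0) * (g, 1)⁻¹ * (xa 0, xa 0)⁻¹)⁻¹) →
      (InKer (x * (g, 1)⁻¹) ∨ InKer (x * (qz * g, 1)⁻¹)) ∨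
        (InKer (x * (1, g)⁻¹) ∨ InKer (x * (1, qz * g)⁻¹)) := by decide +kernel
  rcases key x g hg hsq (hcomm _) (hcomm _) with (h | h) | (h | h) <;>
    have h' := (P.eq_iff.2 h) <;> rw [hx] at h'
  exacts [⟨g, Or.inl rfl, Or.inl h'⟩, ⟨_, Or.inr rfl, Or.inl h'⟩, ⟨g, Or.inl rfl, Or.inr h'⟩,
    ⟨_, Or.inr rfl, Or.inr h'⟩]

/-- Such an element outside `Q` interchanges the two factors. -/
theorem swap {c : S} (hn : ∀ x ∈ Q, c * x * c⁻¹ ∈ Q)
    (hc : ∀ p ∈ qdiag, conjHom φ c p = φ p) (hcQ : c ∉ Q) (u : QEight) :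
    (conjHom φ c (u, 1) = φ (1, u) ∨ conjHom φ c (u, 1) = φ (1, qz * u)) ∧
      (conjHom φ c (1, u) = φ (u, 1) ∨ conjHom φ c (1, u) = φ (qz * u, 1)) := by
  have hij : InKer (((a 1 : QEight), (1 : QEight)) * (xa 0, 1) * (a 1, 1)⁻¹ * (xa 0, 1)⁻¹ *
      (qz, 1)⁻¹) := by decide
  -- no inner action
  have hinner : ∀ d ∈ qdiag, conjHom φ c (a 1, 1) = φ (d * (a 1, 1) * d⁻¹) →
      conjHom φ c (xa 0, 1) = φ (d * (xa 0, 1) * d⁻¹) → False := by
    intro d hd hi hj
    have hout : (φ d)⁻¹ * c ∈ centralizer (Q : Set S) := by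
      refine mem_centralizer_iff.2 fun y hy => ?_
      obtain ⟨p, rfl⟩ := (P.range y).1 hy
      have hT : (⊤ : Subgroup (QEight × QEight)) ≤
          (conjHom φ ((φ d)⁻¹ * c)).eqLocus φ := by
        intro q _
        obtain ⟨m, h⟩ := (by decide +kernel : ∀ q : QEight × QEight, ∃ m : Fin 4,
          q = (a 1, 1) ^ m.val * (q.2, q.2) ∨
            q = (xa 0, 1) * (a 1, 1) ^ m.val * (q.2, q.2)) q
        have e : ∀ r, conjHom φ ((φ d)⁻¹ * c) r = (φ d)⁻¹ * conjHom φ c r * φ d := fun r => by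
          simp only [conjHom_apply]; group
        have h1 : ((a 1, 1) : QEight × QEight) ∈ (conjHom φ ((φ d)⁻¹ * c)).eqLocus φ := by
          show _ = _
          rw [e, hi, map_mul, map_mul, map_inv]; group
        have h2 : ((xa 0, 1) : QEight × QEight) ∈ (conjHom φ ((φ d)⁻¹ * c)).eqLocus φ := by
          show _ = _
          rw [e, hj, map_mul, map_mul, map_inv]; group
        have h3 : ((q.2, q.2) : QEight × QEight) ∈ (conjHom φ ((φ d)⁻¹ * c)).eqLocus φ := by
          show _ = _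
          rw [e, hc _ (Or.inl rfl), ← map_inv, ← map_mul, ← map_mul]
          exact P.eq_iff.2 ((by decide +kernel : ∀ d r : QEight × QEight, d ∈ qdiag → r.1 = r.2 →
            InKer (d⁻¹ * r * d * r⁻¹)) d (q.2, q.2) hd rfl)
        rcases h with h | h <;> rw [h]
        · exact mul_mem (pow_mem h1 _) h3
        · exact mul_mem (mul_mem h2 (pow_mem h1 _)) h3
      have h5 : conjHom φ ((φ d)⁻¹ * c) p = φ p := hT (mem_top p)
      rw [conjHom_apply, mul_inv_eq_iff_eq_mul] at h5
      exact h5.symm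
    refine hcQ ?_
    have := mul_mem ((P.range (φ d)).2 ⟨d, rfl⟩) (P.cent hout)
    rwa [mul_inv_cancel_left] at this
  have hrel : conjHom φ c (a 1, 1) * conjHom φ c (xa 0, 1) * (conjHom φ c (a 1, 1))⁻¹ *
      (conjHom φ c (xa 0, 1))⁻¹ = φ (qz, 1) := by
    rw [← map_inv, ← map_inv, ← map_mul, ← map_mul, ← map_mul, ← hc _ (Or.inr (by decide))]
    exact congrArg (conjHom φ c) (by decide)
  obtain ⟨e, he, hi⟩ := P.image_cases hn hc (Or.inl rfl : (a 1 : QEight) = a 1 ∨ _)
  obtain ⟨f, hf, hj⟩ := P.image_cases hn hc (Or.inr rfl : (xa 0 : QEight) = a 1 ∨ _)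
  have hswap : conjHom φ c (a 1, 1) = φ (1, e) ∧ conjHom φ c (xa 0, 1) = φ (1, f) := by
    rcases hi with hi | hi <;> rcases hj with hj | hj
    · exfalso
      obtain ⟨d, hd, h1, h2⟩ := (by decide +kernel : ∀ e f : QEight, (e = a 1 ∨ e = qz * a 1) →
        (f = xa 0 ∨ f = qz * xa 0) → ∃ d : QEight × QEight, d ∈ qdiag ∧
          InKer ((e, 1) * (d * (a 1, 1) * d⁻¹)⁻¹) ∧
          InKer ((f, 1) * (d * (xa 0, 1) * d⁻¹)⁻¹)) e f he hf
      exact hinner d hd (hi.trans (P.eq_iff.2 h1)) (hj.trans (P.eq_iff.2 h2))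
    all_goals first
      | exact ⟨hi, hj⟩
      | exfalso
        rw [hi, hj, ← map_inv, ← map_inv, ← map_mul, ← map_mul, ← map_mul, P.eq_iff] at hrel
        revert hrel
        rcases he with rfl | rfl <;> rcases hf with rfl | rfl <;> decide
  let K : Submonoid QEight :=
    { carrier := {u | conjHom φ c (u, 1) = φ (1, u) ∨ conjHom φ c (u, 1) = φ (1, qz * u)}
      one_mem' := Or.inl (map_one (conjHom φ c) ▸ (map_one φ).symm)
      mul_mem' := fun {u v} hu hv => by
        have h : ((u * v, 1) : QEight × QEight) = (u, 1) * (v, 1) := rfl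
        show conjHom φ c (u * v, 1) = _ ∨ conjHom φ c (u * v, 1) = _
        rw [h, map_mul]
        rcases hu with hu | hu <;> rcases hv with hv | hv <;> rw [hu, hv, ← map_mul]
        · exact Or.inl rfl
        · exact Or.inr (congrArg φ (Prod.ext (by simp) ((by decide +kernel : ∀ u v : QEight,
            u * (qz * v) = qz * (u * v)) u v)))
        · exact Or.inr (congrArg φ (Prod.ext (by simp) (mul_assoc _ _ _)))
        · exact Or.inl (congrArg φ (Prod.ext (by simp) ((by decide +kernel : ∀ u v : QEight,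
            qz * u * (qz * v) = u * v) u v))) }
  have hiK : (a 1 : QEight) ∈ K := by rcases he with rfl | rfl <;> simp [K, hswap.1]
  have hjK : (xa 0 : QEight) ∈ K := by rcases hf with rfl | rfl <;> simp [K, hswap.2]
  have hu : u ∈ K := by
    obtain ⟨m, h | h⟩ := (by decide +kernel : ∀ u : QEight, ∃ m : Fin 4,
      u = a 1 ^ m.val ∨ u = xa 0 * a 1 ^ m.val) u <;> rw [h]
    · exact pow_mem hiK _
    · exact mul_mem hjK (pow_mem hiK _)
  refine ⟨hu, ?_⟩
  have h1 : ((1, u) : QEight × QEight) = (u, 1)⁻¹ * (u, u) :=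
    Prod.ext (inv_mul_cancel u).symm (by simp)
  rw [h1, map_mul, map_inv, hc (u, u) (Or.inl rfl)]
  rcases hu with hu | hu <;> rw [hu, ← map_inv, ← map_mul]
  · exact Or.inl (P.eq_iff.2 ((by decide +kernel : ∀ u : QEight,
      InKer ((1, u)⁻¹ * (u, u) * (u, 1)⁻¹)) u))
  · exact Or.inr (P.eq_iff.2 ((by decide +kernel : ∀ u : QEight,
      InKer ((1, qz * u)⁻¹ * (u, u) * (qz * u, 1)⁻¹)) u))

/-- The twisted presentation. -/
def twistHom (φ : QEight × QEight →* S) : QEight × QEight →* S :=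
  φ.comp ((MonoidHom.id QEight).prodMap qalpha)

omit P in
theorem twistHom_apply (p : QEight × QEight) : twistHom φ p = φ (p.1, qalpha p.2) := rfl

theorem twist : Pair Q (twistHom φ) where
  range x := by
    rw [P.range]
    constructor
    · rintro ⟨p, rfl⟩
      exact ⟨(p.1, qalpha (qalpha p.2)), by rw [twistHom_apply, qalpha_cube]⟩
    · rintro ⟨p, rfl⟩
      exact ⟨_, rfl⟩
  ker p := by
    rw [twistHom_apply, P.ker]
    exact (by decide +kernel : ∀ p : QEight × QEight, InKer (p.1, qalphaFun p.2) ↔ InKer p) p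
  cent := P.cent

/-- A diagonal subgroup that is not self-centralising gives an interchanging element. -/
theorem exists_outer (hS : IsPGroup 2 S) [Finite S]
    (h : ¬ centralizer ((qdiag.map φ : Subgroup S) : Set S) ≤ qdiag.map φ) :
    ∃ c : S, c ∉ Q ∧ (∀ x ∈ Q, c * x * c⁻¹ ∈ Q) ∧ ∀ p ∈ qdiag, conjHom φ c p = φ p := by
  set A := qdiag.map φ with hA
  set W := centralizer (A : Set S) with hW
  have hWQ : ¬ W ≤ Q := by
    intro hle
    refine h fun x hx => ?_
    obtain ⟨p, rfl⟩ := (P.range x).1 (hle hx)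
    have hp : ∀ u : QEight, InKer ((u, u) * p * (p * (u, u))⁻¹) := fun u => P.eq_iff.1 (by
      rw [map_mul, map_mul]
      exact mem_centralizer_iff.1 hx _ (mem_map_of_mem φ (Or.inl rfl : (u, u) ∈ qdiag)))
    exact mem_map_of_mem φ ((by decide +kernel : ∀ p : QEight × QEight,
      InKer ((a 1, a 1) * p * (p * (a 1, a 1))⁻¹) →
      InKer ((xa 0, xa 0) * p * (p * (xa 0, xa 0))⁻¹) → p ∈ qdiag) p (hp _) (hp _))
  have hQA : ∀ q ∈ Q, ∀ x ∈ A, q * x * q⁻¹ ∈ A := by
    rintro q hq _ ⟨d, hd, rfl⟩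
    obtain ⟨p, rfl⟩ := (P.range q).1 hq
    rw [← map_inv, ← map_mul, ← map_mul]
    exact mem_map_of_mem φ ((by decide +kernel : ∀ p d : QEight × QEight, d ∈ qdiag →
      p * d * p⁻¹ ∈ qdiag) p d hd)
  have hQW : Q ≤ normalizer (W : Set S) := fun q hq => by
    refine mem_normalizer_iff.2 fun x => ?_
    have key : ∀ q ∈ Q, ∀ x ∈ W, q * x * q⁻¹ ∈ W := fun q hq x hx => by
      refine mem_centralizer_iff.2 fun y hy => ?_
      have h1 := mem_centralizer_iff.1 hx _ (hQA q⁻¹ (inv_mem hq) y hy)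
      rw [inv_inv] at h1
      calc y * (q * x * q⁻¹) = q * (q⁻¹ * y * q * x) * q⁻¹ := by group
        _ = q * x * q⁻¹ * y := by rw [h1]; group
    refine ⟨key q hq x, fun hx => ?_⟩
    have h2 := key q⁻¹ (inv_mem hq) _ hx
    group at h2
    exact h2
  set H := Q ⊔ W with hH
  haveI : Fact (Nat.Prime 2) := ⟨Nat.prime_two⟩
  haveI := (hS.to_subgroup H).isNilpotent
  have hlt : Q.subgroupOf H < ⊤ := lt_top_iff_ne_top.2 fun e => hWQ
    (le_sup_right.trans (subgroupOf_eq_top.1 e))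
  obtain ⟨x, hx, hxQ⟩ := SetLike.exists_of_lt (Group.normalizerCondition_of_isNilpotent _ hlt)
  have hxH : (x : S) ∈ ((Q ⊔ W : Subgroup S) : Set S) := x.2
  rw [coe_mul_of_left_le_normalizer_right Q W hQW] at hxH
  obtain ⟨q, hq, c, hc, hqc⟩ := Set.mem_mul.1 hxH
  have hnorm : ∀ y ∈ Q, (x : S) * y * (x : S)⁻¹ ∈ Q := fun y hy =>
    mem_subgroupOf.1 ((mem_normalizer_iff.1 hx ⟨y, (le_sup_left : Q ≤ H) hy⟩).1 hy)
  refine ⟨c, fun e => hxQ (show (x : S) ∈ Q from hqc ▸ mul_mem hq e), fun y hy => ?_,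
    fun p hp => ?_⟩
  · have h1 := mul_mem (mul_mem (inv_mem hq) (hnorm y hy)) hq
    rw [← hqc] at h1
    group at h1
    group
    exact h1
  · rw [conjHom_apply, ← mem_centralizer_iff.1 hc _ (mem_map_of_mem φ hp), mul_inv_cancel_right]

/-- One of the two diagonal subgroups is self-centralising. -/
theorem not_both (hS : IsPGroup 2 S) [Finite S] {c d : S}
    (hcn : ∀ x ∈ Q, c * x * c⁻¹ ∈ Q) (hc : ∀ p ∈ qdiag, conjHom φ c p = φ p) (hcQ : c ∉ Q)
    (hdn : ∀ x ∈ Q, d * x * d⁻¹ ∈ Q)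
    (hd : ∀ p ∈ qdiag, conjHom (twistHom φ) d p = twistHom φ p) (hdQ : d ∉ Q) : False := by
  set g := d * c
  let β : QEight → QEight := fun u => qalphaFun (qalphaFun u)
  have hstep : ∀ u : QEight, ∃ e : QEight, (e = β u ∨ e = qz * β u) ∧
      g * φ (u, 1) * g⁻¹ = φ (e, 1) := by
    intro u
    obtain ⟨v, hv, hcu⟩ : ∃ v, (v = u ∨ v = qz * u) ∧ c * φ (u, 1) * c⁻¹ = φ (1, v) := by
      rcases (P.swap hcn hc hcQ u).1 with h | h
      exacts [⟨u, Or.inl rfl, h⟩, ⟨_, Or.inr rfl, h⟩]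
    have ht : φ (1, v) = twistHom φ (1, qalpha (qalpha v)) := by
      rw [twistHom_apply, qalpha_cube]
    have hcases : ∀ w, (w = β v ∨ w = qz * β v) → w = β u ∨ w = qz * β u :=
      fun w hw => (by decide +kernel : ∀ u v w : QEight, (v = u ∨ v = qz * u) →
        (w = qalphaFun (qalphaFun v) ∨ w = qz * qalphaFun (qalphaFun v)) →
        w = qalphaFun (qalphaFun u) ∨ w = qz * qalphaFun (qalphaFun u)) u v w hv hw
    have hg : g * φ (u, 1) * g⁻¹ = conjHom (twistHom φ) d (1, qalpha (qalpha v)) := by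
      rw [conjHom_apply, ← ht, ← hcu]
      show d * c * φ (u, 1) * (d * c)⁻¹ = _
      group
    rcases (P.twist.swap hdn hd hdQ (qalpha (qalpha v))).2 with h | h
    · exact ⟨_, hcases _ (Or.inl rfl), hg.trans (h.trans (by rw [twistHom_apply, map_one]; rfl))⟩
    · exact ⟨_, hcases _ (Or.inr rfl), hg.trans (h.trans (by rw [twistHom_apply, map_one]; rfl))⟩
  have hiter : ∀ (k : ℕ) (u : QEight), ∃ e : QEight, (e = β^[k] u ∨ e = qz * β^[k] u) ∧
      g ^ k * φ (u, 1) * (g ^ k)⁻¹ = φ (e, 1) := by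
    intro k
    induction k with
    | zero => exact fun u => ⟨u, Or.inl rfl, by simp⟩
    | succ k ih =>
      intro u
      obtain ⟨e, he, h⟩ := ih u
      obtain ⟨e', he', h'⟩ := hstep e
      refine ⟨e', ?_, ?_⟩
      · rw [Function.iterate_succ_apply']
        exact (by decide +kernel : ∀ t e e' : QEight, (e = t ∨ e = qz * t) →
          (e' = qalphaFun (qalphaFun e) ∨ e' = qz * qalphaFun (qalphaFun e)) →
          e' = qalphaFun (qalphaFun t) ∨ e' = qz * qalphaFun (qalphaFun t)) _ e e' he he'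
      · rw [← h', ← h, pow_succ']; group
  have hβ : ∀ k u, β^[k] u = β^[k % 3] u := by
    intro k u
    conv_lhs => rw [← Nat.mod_add_div k 3]
    rw [Function.iterate_add_apply, Function.iterate_mul]
    congr 1
    exact Function.iterate_fixed ((by decide +kernel : ∀ u : QEight, qalphaFun (qalphaFun (qalphaFun
      (qalphaFun (qalphaFun (qalphaFun u))))) = u) u) _
  obtain ⟨n, hn⟩ := hS g
  obtain ⟨e, he, h⟩ := hiter (2 ^ n) (a 1)
  rw [hn, one_mul, inv_one, mul_one] at h
  have h3 : 2 ^ n % 3 = 1 ∨ 2 ^ n % 3 = 2 := by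
    clear hn he h hiter
    induction n with
    | zero => simp
    | succ n ih => rw [pow_succ]; omega
  have heq := P.fst_inj h
  subst heq
  rw [hβ] at he
  rcases h3 with h3 | h3 <;> rw [h3] at he <;>
    simp only [Function.iterate_succ_apply', Function.iterate_zero_apply, β] at he <;>
    revert he <;> decide

theorem eight (hS : IsPGroup 2 S) [Finite S]
    (h : centralizer ((qdiag.map φ : Subgroup S) : Set S) ≤ qdiag.map φ) :
    Eight (qdiag.map φ) := by
  have hexp : ∀ x ∈ qdiag.map φ, x ^ 2 = 1 := by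
    rintro _ ⟨p, hp, rfl⟩
    rw [← map_pow, P.ker]
    exact (by decide +kernel : ∀ p : QEight × QEight, p ∈ qdiag → InKer (p ^ 2)) p hp
  refine ⟨hS, hexp, ?_, le_antisymm h fun x hx => mem_centralizer_iff.2 fun y hy =>
    (sq_comm hexp hy hx).eq⟩
  have hk : Nat.card (φ.ker.subgroupOf qdiag) = 2 := by
    rw [Nat.card_congr (subgroupOfEquivOfLe (fun p hp => by
      rcases (P.ker p).1 hp with rfl | rfl <;> decide : φ.ker ≤ qdiag)).toEquiv,
      Nat.card_congr (Equiv.subtypeEquivRight fun p => MonoidHom.mem_ker.trans (P.ker p)), Nat.card_eq_fintype_card]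
    decide
  have h1 := (φ.ker.subgroupOf qdiag).index_mul_card
  rw [hk, card_qdiag, show (φ.ker.subgroupOf qdiag).index = φ.ker.relIndex qdiag from rfl,
    relIndex_ker] at h1
  omega

/-- The sectional rank is at most four. -/
theorem sectional (hS : IsPGroup 2 S) [Finite S] : Cfsg.SectionalPRankLE 2 4 S := by
  by_cases h1 : centralizer ((qdiag.map φ : Subgroup S) : Set S) ≤ qdiag.map φ
  · exact sectional_of_eight (P.eight hS h1)
  by_cases h2 : centralizer ((qdiag.map (twistHom φ) : Subgroup S) : Set S) ≤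
      qdiag.map (twistHom φ)
  · exact sectional_of_eight (P.twist.eight hS h2)
  obtain ⟨c, hcQ, hcn, hc⟩ := P.exists_outer hS h1
  obtain ⟨d, hdQ, hdn, hd⟩ := P.twist.exists_outer hS h2
  exact (P.not_both hS hcn hc hcQ hdn hd hdQ).elim

end Pair

/-- A product of two commuting quaternion groups of order 32 containing its centraliser. -/
theorem sectional_of_quaternion_pair [Finite S] (hS : IsPGroup 2 S) (Q Q₁ Q₂ : Subgroup S)
    (e₁ : Q₁ ≃* QEight) (e₂ : Q₂ ≃* QEight) (hcomm : ∀ a ∈ Q₁, ∀ b ∈ Q₂, a * b = b * a)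
    (hQ : Q₁ ⊔ Q₂ = Q) (h32 : Nat.card Q = 32) (hC : centralizer (Q : Set S) ≤ Q) :
    Cfsg.SectionalPRankLE 2 4 S := by
  set f₁ : QEight →* S := Q₁.subtype.comp e₁.symm.toMonoidHom
  set f₂ : QEight →* S := Q₂.subtype.comp e₂.symm.toMonoidHom
  set φ := MonoidHom.noncommCoprod f₁ f₂ fun u v => hcomm _ (e₁.symm u).2 _ (e₂.symm v).2
  have hr : φ.range = Q := by
    rw [show φ.range = f₁.range ⊔ f₂.range from MonoidHom.noncommCoprod_range _ _ _, ← hQ]
    congr 1 <;> simp [f₁, f₂, MonoidHom.range_comp, ← MonoidHom.range_eq_map]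
  have hinj₁ : Function.Injective f₁ := Q₁.subtype_injective.comp e₁.symm.injective
  have hinj₂ : Function.Injective f₂ := Q₂.subtype_injective.comp e₂.symm.injective
  have hcard : Nat.card φ.ker = 2 := by
    have h1 := φ.ker.index_mul_card
    rw [index_ker, hr, h32, Nat.card_eq_fintype_card (α := QEight × QEight),
      show Fintype.card (QEight × QEight) = 64 by decide +kernel] at h1
    omega
  have hsub : ∀ p, φ p = 1 → InKer p := by
    intro p hp
    have hc : ∀ q, q * p = p * q := by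
      intro q
      by_contra hne
      have hp1 : p ≠ 1 := fun e => hne (by rw [e, one_mul, mul_one])
      have h3 : q * p * q⁻¹ ∈ φ.ker := by
        rw [MonoidHom.mem_ker, map_mul, map_mul, hp, mul_one, map_inv, mul_inv_cancel]
      have : 2 < Nat.card φ.ker := by
        haveI := Fintype.ofFinite φ.ker
        rw [Nat.card_eq_fintype_card, Fintype.two_lt_card_iff]
        exact ⟨1, ⟨p, hp⟩, ⟨_, h3⟩, fun e => hp1 (congrArg Subtype.val e).symm,
          fun e => hp1 (conj_eq_one_iff.1 (congrArg Subtype.val e).symm),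
          fun e => hne (mul_inv_eq_iff_eq_mul.1 (congrArg Subtype.val e).symm)⟩
      omega
    rcases (by decide +kernel : ∀ p : QEight × QEight,
      ((a 1, 1) * p = p * (a 1, 1) ∧ (xa 0, 1) * p = p * (xa 0, 1) ∧
        (1, a 1) * p = p * (1, a 1) ∧ (1, xa 0) * p = p * (1, xa 0)) →
      InKer p ∨ p = (qz, 1) ∨ p = (1, qz)) p ⟨hc _, hc _, hc _, hc _⟩ with h | rfl | rfl
    · exact h
    · exact absurd (hinj₁ (((mul_one _).symm.trans ((congrArg (f₁ qz * ·) (map_one f₂).symm).trans hp) : f₁ qz = 1).trans (map_one f₁).symm))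
        (by decide)
    · exact absurd (hinj₂ (((one_mul _).symm.trans ((congrArg (· * f₂ qz) (map_one f₁).symm).trans hp) : f₂ qz = 1).trans (map_one f₂).symm))
        (by decide)
  have hzz : φ (qz, qz) = 1 := by
    haveI : Nontrivial φ.ker := Finite.one_lt_card_iff_nontrivial.1 (by omega)
    obtain ⟨⟨p, hp⟩, hp1⟩ := exists_ne (1 : φ.ker)
    rcases hsub p hp with rfl | rfl
    · exact absurd rfl hp1
    · exact hp
  exact Pair.sectional (φ := φ) (Q := Q) ⟨fun x => by rw [← hr, MonoidHom.mem_range],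
    fun p => ⟨hsub p, fun h => by rcases h with rfl | rfl; exacts [map_one φ, hzz]⟩, hC⟩ hS

end CfsgLib.PGroup.SelfCentEight
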